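import Mathlib.GroupTheory.GroupAction.Quotient
import Mathlib.GroupTheory.SpecificGroups.Cyclic
import Mathlib.GroupTheory.PGroup
import Mathlib.GroupTheory.Complement
import Mathlib.Tactic.Group

/-!
# A faithful group of order nine on an elementary abelian group of order sixteen

It fixes only `1`, and `P` is the product of two invariant four groups, each of which is the
fixed subgroup of an element; nothing outside them is fixed by a nontrivial element.
-/

set_option autoImplicit false
set_option linter.style.haveILetI false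

namespace Cfsg.Agent.Blocks.NineInertial

universe u

variable {E P : Type u} [Group E] [Group P] [Finite E] [Finite P] (α : E →* MulAut P)

/-- The points fixed by `a`. -/
def fixedBy (a : E) : Subgroup P where
  carrier := {v | α a v = v}
  one_mem' := map_one (α a)
  mul_mem' := fun {v w} hv hw => by
    simp only [Set.mem_setOf_eq] at hv hw ⊢
    rw [map_mul, hv, hw]
  inv_mem' := fun {v} hv => by
    simp only [Set.mem_setOf_eq] at hv ⊢
    rw [map_inv, hv]

theorem mem_fixedBy {a : E} {v : P} : v ∈ fixedBy α a ↔ α a v = v := Iff.rfl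

variable {α} (hP : Nat.card P = 16) (hsq : ∀ v : P, v * v = 1) (hE : Nat.card E = 9)
  (hinj : Function.Injective α)
include hP hsq hE hinj

theorem three_dvd_fixed_sub (a : E) : Nat.card (fixedBy α a) ≡ 1 [MOD 3] := by
  haveI : Fact (Nat.Prime 3) := ⟨Nat.prime_three⟩
  letI : MulAction (Subgroup.zpowers a) P := MulAction.compHom P ((α.comp (Subgroup.zpowers a).subtype :
    Subgroup.zpowers a →* MulAut P))
  have hpg : IsPGroup 3 (Subgroup.zpowers a) :=
    (IsPGroup.of_card (n := 2) (by rw [hE]; norm_num) : IsPGroup 3 E).to_subgroup _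
  have h := hpg.card_modEq_card_fixedPoints P
  have e : MulAction.fixedPoints (Subgroup.zpowers a) P = (fixedBy α a : Set P) := by
    ext v
    refine ⟨fun hv => hv ⟨a, Subgroup.mem_zpowers a⟩, fun hv x => ?_⟩
    obtain ⟨i, hi⟩ := Subgroup.mem_zpowers_iff.1 x.2
    show α (x : E) v = v
    rw [← hi]
    exact (Subgroup.zpowers_le.2 (show a ∈ (MulAction.stabilizer (MulAut P) v).comap α from hv))
      ⟨i, rfl⟩
  rw [hP, e] at h
  exact h.symm

theorem card_fixed {a : E} (ha : a ≠ 1) :
    Nat.card (fixedBy α a) = 1 ∨ Nat.card (fixedBy α a) = 4 := by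
  have h := three_dvd_fixed_sub hP hsq hE hinj a
  have hd : Nat.card (fixedBy α a) ∣ 16 := hP ▸ Subgroup.card_subgroup_dvd_card _
  have hne : Nat.card (fixedBy α a) ≠ 16 := fun e => by
    refine ha (hinj (MulEquiv.ext fun v => ?_))
    have htop : fixedBy α a = ⊤ := Subgroup.eq_top_of_card_eq _ (e.trans hP.symm)
    have : v ∈ fixedBy α a := htop ▸ Subgroup.mem_top v
    rw [map_one, MulAut.one_apply]
    exact this
  have hle := Nat.le_of_dvd (by norm_num) hd
  generalize Nat.card (fixedBy α a) = m at *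
  simp only [Nat.ModEq] at h
  interval_cases m <;> omega

theorem comm_P (v w : P) : v * w = w * v := by
  calc v * w = (v * w) * ((w * v) * (w * v)) := by rw [hsq, mul_one]
    _ = v * (w * w) * v * (w * v) := by group
    _ = w * v := by rw [hsq, mul_one, hsq, one_mul]

theorem comm_E (a b : E) : a * b = b * a := by
  haveI : Fact (Nat.Prime 3) := ⟨Nat.prime_three⟩
  exact IsPGroup.commutative_of_card_eq_prime_sq (p := 3) (by rw [hE]; norm_num) a b

theorem fixed_invariant {a : E} {v : P} (hv : v ∈ fixedBy α a) (b : E) :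
    α b v ∈ fixedBy α a := by
  rw [mem_fixedBy, ← MulAut.mul_apply, ← map_mul, comm_E hP hsq hE hinj a b, map_mul,
    MulAut.mul_apply, hv]

open scoped Classical in
/-- The number of elements with a four-element fixed group. -/
theorem exists_count :
    ∃ f : ℕ, f % 3 = 1 ∧ f = Nat.card {a : E // a ≠ 1 ∧ Nat.card (fixedBy α a) = 4} := by
  letI : Fintype E := Fintype.ofFinite E
  letI : MulAction E P := MulAction.compHom P α
  letI : Fintype P := Fintype.ofFinite P
  have h := MulAction.sum_card_fixedBy_eq_card_orbits_mul_card_group E P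
  set f := Nat.card {a : E // a ≠ 1 ∧ Nat.card (fixedBy α a) = 4}
  refine ⟨f, ?_, rfl⟩
  have h1 : ∀ a : E, Fintype.card (MulAction.fixedBy P a) = if a = 1 then 16 else
      1 + if a ≠ 1 ∧ Nat.card (fixedBy α a) = 4 then 3 else 0 := fun a => by
    rw [← Nat.card_eq_fintype_card,
      show Nat.card (MulAction.fixedBy P a) = Nat.card (fixedBy α a) from rfl]
    split_ifs with e e'
    · subst e
      rw [← hP]
      exact Nat.card_congr (Equiv.subtypeUnivEquiv fun v => by simp [mem_fixedBy])
    · rw [e'.2]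
    · rcases card_fixed hP hsq hE hinj e with c | c
      · omega
      · exact absurd ⟨e, c⟩ e'
  simp only [h1] at h
  rw [← Finset.add_sum_erase _ _ (Finset.mem_univ (1 : E)), if_pos rfl,
    Finset.sum_congr rfl fun a ha => if_neg (Finset.mem_erase.1 ha).1, Finset.sum_add_distrib,
    Finset.sum_ite, Finset.sum_const_zero, add_zero, Finset.sum_const, Finset.sum_const,
    smul_eq_mul, smul_eq_mul, Finset.card_erase_of_mem (Finset.mem_univ _), Finset.card_univ,
    ← Nat.card_eq_fintype_card (α := E), hE,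
    show (Finset.univ.erase (1 : E)).filter (fun a => a ≠ 1 ∧ Nat.card (fixedBy α a) = 4) =
      Finset.univ.filter (fun a => a ≠ 1 ∧ Nat.card (fixedBy α a) = 4) by
      ext a; simp, ← Fintype.card_subtype, ← Nat.card_eq_fintype_card] at h
  omega

/-- No nontrivial point is fixed by the whole group. -/
theorem fixed_all {v : P} (hv : ∀ a : E, α a v = v) : v = 1 := by
  by_contra hv1
  obtain ⟨f, hf, hfdef⟩ := exists_count hP hsq hE hinj
  have hall : ∀ a : E, a ≠ 1 → Nat.card (fixedBy α a) = 4 := fun a ha =>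
    (card_fixed hP hsq hE hinj ha).resolve_left fun h => hv1 (by
      have := Subgroup.eq_bot_of_card_eq _ h
      have hm : v ∈ fixedBy α a := hv a
      rwa [this, Subgroup.mem_bot] at hm)
  have : f = 8 := by
    classical
    letI : Fintype E := Fintype.ofFinite E
    rw [hfdef, Nat.card_eq_fintype_card, Fintype.card_subtype,
      show Finset.univ.filter (fun a : E => a ≠ 1 ∧ Nat.card (fixedBy α a) = 4) =
        Finset.univ.erase 1 by ext a; simpa using hall a,
      Finset.card_erase_of_mem (Finset.mem_univ _), Finset.card_univ, ← Nat.card_eq_fintype_card,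
      hE]
  omega

theorem cube_one (a : E) : a ^ 3 = 1 := by
  by_contra h
  classical
  letI : Fintype E := Fintype.ofFinite E
  have hord : orderOf a = 9 := by
    obtain ⟨j, hj, hj'⟩ := (Nat.dvd_prime_pow Nat.prime_three (i := orderOf a) (m := 2)).1
      (by rw [show 3 ^ 2 = Nat.card E by rw [hE]; norm_num]; exact orderOf_dvd_natCard a)
    interval_cases j
    · exact absurd (by rw [orderOf_eq_one_iff.1 (hj'.trans (pow_zero 3))]; simp) h
    · exact absurd (orderOf_dvd_iff_pow_eq_one.1 (by rw [hj', pow_one])) h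
    · simpa using hj'
  have hgen : ∀ b : E, ∃ i < 9, a ^ i = b := fun b => by
    have hb : b ∈ Subgroup.zpowers a := by
      rw [Subgroup.eq_top_of_card_eq (Subgroup.zpowers a) (by rw [Nat.card_zpowers, hord, hE])]
      exact Subgroup.mem_top b
    obtain ⟨i, hi⟩ := Finset.mem_image.1 (mem_zpowers_iff_mem_range_orderOf.1 hb)
    exact ⟨i, by simpa [hord] using hi.1, hi.2⟩
  have hfix : ∀ b : E, b ≠ 1 → b ≠ a ^ 3 → b ≠ a ^ 6 → Nat.card (fixedBy α b) ≠ 4 := by
    intro b hb h3 h6 hb4
    obtain ⟨i, hi, rfl⟩ := hgen b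
    have h0 : i % 3 ≠ 0 := fun e => by
      have : i = 0 ∨ i = 3 ∨ i = 6 := by omega
      rcases this with rfl | rfl | rfl
      · exact hb (pow_zero a)
      · exact h3 rfl
      · exact h6 rfl
    obtain ⟨j, hj⟩ := exists_pow_eq_self_of_coprime (x := a) (n := i) (by
      rw [hord, show (9 : ℕ) = 3 ^ 2 by norm_num]
      exact Nat.Coprime.pow_right 2 ((Nat.Prime.coprime_iff_not_dvd Nat.prime_three).2
        fun hd => h0 (Nat.mod_eq_zero_of_dvd hd)).symm)
    have hbot : fixedBy α (a ^ i) = ⊥ := (Subgroup.eq_bot_iff_forall _).2 fun v hv => by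
      refine fixed_all hP hsq hE hinj fun c => ?_
      obtain ⟨l, -, rfl⟩ := hgen c
      rw [← hj, ← pow_mul]
      exact (Subgroup.pow_mem ((MulAction.stabilizer (MulAut P) v).comap α)
        (show a ^ i ∈ (MulAction.stabilizer (MulAut P) v).comap α from hv) (j * l)) |> fun e => by
        rwa [← pow_mul] at e ⊢
    rw [hbot, Subgroup.card_bot] at hb4
    omega
  obtain ⟨f, hf, hfdef⟩ := exists_count hP hsq hE hinj
  have hne36 : a ^ 3 ≠ a ^ 6 := fun e => h (by
    rw [show (6 : ℕ) = 3 + 3 from rfl, pow_add] at e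
    exact left_eq_mul.1 e)
  have h6 : a ^ 6 ≠ 1 := fun e => by
    have := orderOf_dvd_iff_pow_eq_one.2 e
    rw [hord] at this; omega
  have heq : fixedBy α (a ^ 6) = fixedBy α (a ^ 3) := by
    refine le_antisymm (fun v hv => ?_) (fun v hv => ?_)
    · have hm : a ^ 3 ∈ (MulAction.stabilizer (MulAut P) v).comap α := by
        have := pow_mem (show a ^ 6 ∈ (MulAction.stabilizer (MulAut P) v).comap α from hv) 2
        rwa [← pow_mul, show 6 * 2 = 9 + 3 from rfl, pow_add, ← hord, pow_orderOf_eq_one,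
          one_mul] at this
      exact hm
    · show a ^ 6 ∈ (MulAction.stabilizer (MulAut P) v).comap α
      rw [show (6 : ℕ) = 3 + 3 from rfl, pow_add]
      exact mul_mem hv hv
  rw [Nat.card_eq_fintype_card, Fintype.card_subtype] at hfdef
  rcases card_fixed hP hsq hE hinj h with h3 | h3
  · have hf0 : Finset.univ.filter (fun b : E => b ≠ 1 ∧ Nat.card (fixedBy α b) = 4) = ∅ := by
      refine Finset.filter_eq_empty_iff.2 fun b _ hb => hfix b hb.1 ?_ ?_ hb.2
      · rintro rfl; omega
      · rintro rfl; rw [heq] at hb; omega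
    rw [hf0, Finset.card_empty] at hfdef
    omega
  · have hf2 : Finset.univ.filter (fun b : E => b ≠ 1 ∧ Nat.card (fixedBy α b) = 4) =
        {a ^ 3, a ^ 6} := by
      ext b
      simp only [Finset.mem_filter, Finset.mem_univ, true_and, Finset.mem_insert,
        Finset.mem_singleton]
      refine ⟨fun hb => ?_, ?_⟩
      · by_contra hne
        push Not at hne
        exact hfix b hb.1 hne.1 hne.2 hb.2
      · rintro (rfl | rfl)
        · exact ⟨h, h3⟩
        · exact ⟨h6, by rw [heq, h3]⟩
    rw [hf2, Finset.card_pair hne36] at hfdef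
    omega

/-- The decomposition. -/
theorem exists_decomp : ∃ V W : Subgroup P, Nat.card V = 4 ∧ Nat.card W = 4 ∧ Disjoint V W ∧
    (∀ p : P, ∃ v ∈ V, ∃ w ∈ W, v * w = p) ∧
    (∀ b : E, ∀ v ∈ V, α b v ∈ V) ∧ (∀ b : E, ∀ w ∈ W, α b w ∈ W) ∧
    (∃ a : E, a ≠ 1 ∧ fixedBy α a = V) ∧ (∃ a : E, a ≠ 1 ∧ fixedBy α a = W) ∧
    ∀ a : E, a ≠ 1 → ∀ v ∈ V, ∀ w ∈ W, α a (v * w) = v * w → v = 1 ∨ w = 1 := by
  classical
  letI : Fintype E := Fintype.ofFinite E
  obtain ⟨f, hf, hfdef⟩ := exists_count hP hsq hE hinj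
  obtain ⟨a₁, ha1, ha14⟩ : ∃ a : E, a ≠ 1 ∧ Nat.card (fixedBy α a) = 4 := by
    by_contra hh
    have : f = 0 := by
      rw [hfdef, Nat.card_eq_zero]
      exact Or.inl ⟨fun ⟨b, hb⟩ => hh ⟨b, hb⟩⟩
    omega
  set V := fixedBy α a₁
  -- two nontrivial fixed groups meet trivially unless equal
  have hmeet : ∀ a b : E, a ≠ 1 → b ∉ Subgroup.zpowers a → fixedBy α a ⊓ fixedBy α b = ⊥ := by
    intro a b ha hb
    refine (Subgroup.eq_bot_iff_forall _).2 fun v hv => fixed_all hP hsq hE hinj fun c => ?_
    haveI : Fact (Nat.Prime 3) := ⟨Nat.prime_three⟩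
    have hS : MulAction.stabilizer (MulAut P) v ⊓ ⊤ = MulAction.stabilizer (MulAut P) v := inf_top_eq _
    set S := (MulAction.stabilizer (MulAut P) v).comap α
    have haS : a ∈ S := hv.1
    have hbS : b ∈ S := hv.2
    have h3 : orderOf a = 3 := orderOf_eq_prime (cube_one hP hsq hE hinj a) ha
    have hlt : Subgroup.zpowers a < S := lt_of_le_of_ne (Subgroup.zpowers_le.2 haS)
      fun e => hb (e ▸ hbS)
    have hd : Nat.card S ∣ 9 := hE ▸ Subgroup.card_subgroup_dvd_card S
    have h3S : 3 ∣ Nat.card S := h3 ▸ Subgroup.orderOf_dvd_natCard S haS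
    have hgt : 3 < Nat.card S := by
      rcases Nat.lt_or_ge 3 (Nat.card S) with h | h
      · exact h
      · exact absurd (Subgroup.eq_of_le_of_card_ge hlt.le (by rw [Nat.card_zpowers, h3]; exact h))
          hlt.ne
    have htop : S = ⊤ := Subgroup.eq_top_of_card_eq S (by
      rw [hE]
      rcases (Nat.dvd_prime_pow Nat.prime_three (m := 2)).1 (by simpa using hd) with ⟨j, hj, hj'⟩
      interval_cases j <;> simp_all)
    exact (htop ▸ Subgroup.mem_top c : c ∈ S)
  obtain ⟨a₂, ha2, ha24, ha2n⟩ : ∃ a : E, a ≠ 1 ∧ Nat.card (fixedBy α a) = 4 ∧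
      a ∉ Subgroup.zpowers a₁ := by
    by_contra hh
    push Not at hh
    have h3 : orderOf a₁ = 3 :=
      haveI : Fact (Nat.Prime 3) := ⟨Nat.prime_three⟩
      orderOf_eq_prime (cube_one hP hsq hE hinj a₁) ha1
    have hset : Finset.univ.filter (fun b : E => b ≠ 1 ∧ Nat.card (fixedBy α b) = 4) =
        {a₁, a₁ ^ 2} := by
      ext b
      simp only [Finset.mem_filter, Finset.mem_univ, true_and, Finset.mem_insert,
        Finset.mem_singleton]
      refine ⟨fun hb => ?_, ?_⟩
      · have hm := Finset.mem_image.1 (mem_zpowers_iff_mem_range_orderOf.1 (hh b hb.1 hb.2))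
        obtain ⟨i, hi, rfl⟩ := hm
        rw [Finset.mem_range, h3] at hi
        interval_cases i
        · exact absurd (pow_zero a₁) hb.1
        · exact Or.inl (pow_one a₁)
        · exact Or.inr rfl
      · rintro (rfl | rfl)
        · exact ⟨ha1, ha14⟩
        · have h2 : a₁ ^ 2 ≠ 1 := fun e => by
            have := orderOf_dvd_iff_pow_eq_one.2 e
            rw [h3] at this; omega
          refine ⟨h2, (card_fixed hP hsq hE hinj h2).resolve_left fun c => ?_⟩
          have : fixedBy α a₁ ≤ fixedBy α (a₁ ^ 2) := fun v hv => by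
            rw [mem_fixedBy, pow_two, map_mul, MulAut.mul_apply, hv, hv]
          have := Subgroup.card_le_of_le this
          rw [show Nat.card (fixedBy α a₁) = 4 from ha14, c] at this
          omega
    have : f = 2 := by
      rw [hfdef, Nat.card_eq_fintype_card, Fintype.card_subtype, hset, Finset.card_pair]
      intro e
      rw [pow_two] at e
      exact ha1 (left_eq_mul.1 e)
    omega
  set W := fixedBy α a₂
  have hVW : Disjoint V W := disjoint_iff.2 (hmeet a₁ a₂ ha1 ha2n)
  have hc := Subgroup.isComplement'_of_card_mul_and_disjoint (H := V) (K := W)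
    (by rw [ha14, ha24, hP]) hVW
  refine ⟨V, W, ha14, ha24, hVW, fun p => ?_, fun b v hv => fixed_invariant hP hsq hE hinj hv b,
    fun b w hw => fixed_invariant hP hsq hE hinj hw b, ⟨a₁, ha1, rfl⟩, ⟨a₂, ha2, rfl⟩, ?_⟩
  · obtain ⟨⟨v, w⟩, hvw⟩ := hc.2 p
    exact ⟨v, v.2, w, w.2, hvw⟩
  intro a ha v hv w hw hfix
  by_contra hne
  push Not at hne
  rw [map_mul] at hfix
  have hv' : α a v = v := by
    have h1 : v⁻¹ * α a v = w * (α a w)⁻¹ := by
      rw [inv_mul_eq_iff_eq_mul, ← mul_assoc, eq_mul_inv_iff_mul_eq, hfix]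
    have h2 : v⁻¹ * α a v ∈ V ⊓ W := Subgroup.mem_inf.2
      ⟨V.mul_mem (V.inv_mem hv) (fixed_invariant hP hsq hE hinj hv a),
      h1 ▸ W.mul_mem hw (W.inv_mem (fixed_invariant hP hsq hE hinj hw a))⟩
    rw [hVW.eq_bot, Subgroup.mem_bot, inv_mul_eq_one] at h2
    exact h2.symm
  have hw' : α a w = w := by rw [hv'] at hfix; exact mul_left_cancel hfix
  by_cases hz : a ∈ Subgroup.zpowers a₁
  · -- then `a₁` fixes `w`
    haveI : Fact (Nat.Prime 3) := ⟨Nat.prime_three⟩
    have h3 : orderOf a₁ = 3 := orderOf_eq_prime (cube_one hP hsq hE hinj a₁) ha1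
    have hza : Subgroup.zpowers a = Subgroup.zpowers a₁ :=
      Subgroup.eq_of_le_of_card_ge (Subgroup.zpowers_le.2 hz) (by
        rw [Nat.card_zpowers, Nat.card_zpowers, h3,
          orderOf_eq_prime (cube_one hP hsq hE hinj a) ha])
    have : a₁ ∈ (MulAction.stabilizer (MulAut P) w).comap α :=
      Subgroup.zpowers_le.2 (show a ∈ (MulAction.stabilizer (MulAut P) w).comap α from hw')
        (hza ▸ Subgroup.mem_zpowers a₁)
    have hmem : w ∈ V ⊓ W := ⟨this, hw⟩
    rw [hVW.eq_bot, Subgroup.mem_bot] at hmem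
    exact hne.2 hmem
  · have hmem : v ∈ V ⊓ fixedBy α a := ⟨hv, hv'⟩
    rw [hmeet a₁ a ha1 hz, Subgroup.mem_bot] at hmem
    exact hne.1 hmem

end Cfsg.Agent.Blocks.NineInertial
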