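import Cfsg.Agent.Lib.BlockCount.Criterion
import Cfsg.Agent.Lib.BlocksX.Central
import Cfsg.Agent.Lib.Char.Descend
import Cfsg.Agent.Lib.ZStar.PrincipalConst

/-!
# The principal block over a normal subgroup with a complement central modulo `p'`-cores

If every coset of a normal subgroup `K` containing the `p`-regular elements meets an element that
is central modulo a normal `p'`-subgroup inside `K`, then the principal block of the group lies
over that of `K` with `[G : K]` characters above each member, all restricting to it.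
-/

set_option autoImplicit false
set_option linter.style.haveILetI false
set_option linter.unusedSectionVars false

namespace Cfsg.Agent.Blocks.NineInertial

open Cfsg Cfsg.Agent
open scoped ComplexConjugate Classical

universe u

variable {G : Type u} [Group G] [Fintype G] {p : ℕ} [hp : Fact p.Prime] {M : Ideal AlgInt}

/-- An element central modulo a normal `p'`-subgroup inside `K`. -/
def CentralMod (p : ℕ) (K : Subgroup G) (z : G) : Prop :=
  ∃ N : Subgroup G, N.Normal ∧ (Nat.card N).Coprime p ∧ N ≤ K ∧ ∀ g, z * g * z⁻¹ * g⁻¹ ∈ N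

variable {K : Subgroup G} [K.Normal] [Fintype K] (hM : IsPModular p M)
  (hreg : ∀ g : G, IsPRegular p g → g ∈ K)
  (hcov : ∀ c : G, ∃ z, CentralMod p K z ∧ ∃ k ∈ K, c = z * k)
include hM hreg hcov

theorem mem_trivOn {N : Subgroup G} [N.Normal] (hN : (Nat.card N).Coprime p) (hNK : N ≤ K)
    {ψ : IrrCharacter K} (hψ : ψ ∈ principalBlock M K) : Char.TrivOn (N.subgroupOf K) ψ.1 :=
  ZStar.trivOn_of_mem_principalBlock_of_coprime hM
    (by rwa [Nat.card_congr (Subgroup.subgroupOfEquivOfLe hNK).toEquiv]) hψ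

/-- Members of the principal block of `K` are invariant. -/
theorem conjFun_eq {ψ : IrrCharacter K} (hψ : ψ ∈ principalBlock M K) (c : G) :
    Char.conjFun K ψ.1 c = ψ.1 := by
  funext k
  obtain ⟨z, ⟨N, hNn, hN, hNK, hz⟩, k₀, hk₀, rfl⟩ := hcov c
  haveI := hNn
  show ψ.1 ((MulAut.conjNormal (z * k₀) : MulAut K) k) = ψ.1 k
  set k' : K := (⟨k₀, hk₀⟩ : K) * k * (⟨k₀, hk₀⟩ : K)⁻¹
  have hmem : z * (k' : G) * z⁻¹ * (k' : G)⁻¹ ∈ N := hz _
  have e : (MulAut.conjNormal (z * k₀) : MulAut K) k = ⟨_, hNK hmem⟩ * k' := by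
    refine Subtype.ext ?_
    simp only [MulAut.conjNormal_apply, Subgroup.coe_mul, k', Subgroup.coe_inv]
    group
  have htriv := mem_trivOn hM hreg hcov hN hNK hψ
  have hcl : ψ.1 k' = ψ.1 k := Char.IsCharacter.isClassFunction (Char.irr_isCharacter ψ) k _
  rw [e]
  have h1 := Char.apply_mul_of_trivOn htriv k'⁻¹ (k := (⟨_, hNK hmem⟩ : K)⁻¹)
    (Subgroup.mem_subgroupOf.2 (by simpa using N.inv_mem hmem))
  rw [← mul_inv_rev, CharInt.char_inv (Char.irr_isCharacter ψ),
    CharInt.char_inv (Char.irr_isCharacter ψ)] at h1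
  rw [← hcl, ← Complex.conj_conj (ψ.1 k'), ← h1, Complex.conj_conj]

theorem restrict_eq {η : IrrCharacter G} {ψ : IrrCharacter K}
    (hψ : ψ ∈ principalBlock M K) (h : classInner (Char.resFun K η.1) ψ.1 ≠ 0) :
    ∀ k : K, η.1 k = ψ.1 k := by
  have horb := Char.resFun_eq_smul_orbitSum K η ψ h
  have hset : Char.orbitFinset K ψ = {ψ} := by
    ext θ
    rw [Char.mem_orbitFinset, Finset.mem_singleton]
    constructor
    · rintro ⟨g, rfl⟩
      exact Subtype.ext ((Char.conjChar_coe K ψ g).trans (conjFun_eq hM hreg hcov hψ g))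
    · rintro rfl
      exact ⟨1, Subtype.ext ((Char.conjChar_coe K θ 1).trans (conjFun_eq hM hreg hcov hψ 1)).symm⟩
  rw [Char.orbitSum, hset, Finset.sum_singleton] at horb
  set e := classInner (Char.resFun K η.1) ψ.1 with he
  have hres : ∀ k : K, η.1 k = e * ψ.1 k := fun k => congrFun horb k
  have hN : ∀ N : Subgroup G, N.Normal → (Nat.card N).Coprime p → N ≤ K → Char.TrivOn N η.1 := by
    intro N hn hc hle k hk
    haveI := hn
    have h1 := hres ⟨k, hle hk⟩
    have h2 := hres 1
    rw [mem_trivOn hM hreg hcov hc hle hψ ⟨k, hle hk⟩ (Subgroup.mem_subgroupOf.2 hk)] at h1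
    rw [Subgroup.coe_one] at h2
    exact h1.trans h2.symm
  have hF : ∀ (z : G), CentralMod p K z → ∀ g,
      η.1 (z * g) * η.1 (z * g)⁻¹ = η.1 g * η.1 g⁻¹ := by
    rintro z ⟨N, hn, hc, hle, hz⟩ g
    haveI := hn
    obtain ⟨θ, hθ⟩ := Char.exists_descend N η (hN N hn hc hle)
    have hzc : (z : G ⧸ N) ∈ Subgroup.center (G ⧸ N) := Subgroup.mem_center_iff.2 fun q => by
      obtain ⟨y, rfl⟩ := QuotientGroup.mk_surjective q
      rw [← QuotientGroup.mk_mul, ← QuotientGroup.mk_mul, eq_comm, QuotientGroup.eq_iff_div_mem,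
        div_eq_mul_inv, mul_inv_rev, ← mul_assoc]
      exact hz y
    rw [← hθ, ← hθ, ← hθ, ← hθ, QuotientGroup.mk_inv, QuotientGroup.mk_inv, QuotientGroup.mk_mul,
      show (z : G ⧸ N) * (g : G ⧸ N) = (g : G ⧸ N) * z from
        (Subgroup.mem_center_iff.1 hzc _).symm, mul_inv_rev,
      show (z : G ⧸ N)⁻¹ * (g : G ⧸ N)⁻¹ = (g : G ⧸ N)⁻¹ * (z : G ⧸ N)⁻¹ from
        (Subgroup.mem_center_iff.1 (inv_mem hzc) _).symm,
      BlocksX.apply_mul_central θ hzc, BlocksX.apply_mul_central θ (inv_mem hzc)]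
    have h1 := BlocksX.centScalar_mul θ hzc (inv_mem hzc)
    rw [mul_inv_cancel, BlocksX.centScalar_one] at h1
    linear_combination -(θ.1 (g : G ⧸ N) * θ.1 (g : G ⧸ N)⁻¹) * h1
  -- the norm of the restriction is one
  set F : G → ℂ := fun g => η.1 g * η.1 g⁻¹
  have hcoset : ∀ q : G ⧸ K, ∑ k : K, F (q.out * k) = ∑ k : K, F k := fun q => by
    obtain ⟨z, hz, k₀, hk₀, e⟩ := hcov q.out
    rw [← Equiv.sum_comp (Equiv.mulLeft (⟨k₀, hk₀⟩ : K)) fun k : K => F k]
    refine Finset.sum_congr rfl fun k _ => ?_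
    rw [e, mul_assoc]
    exact hF z hz _
  have hdec : ∑ g : G, F g = (K.index : ℂ) * ∑ k : K, F k := by
    haveI := Fintype.ofFinite (G ⧸ K)
    rw [← Finset.sum_fiberwise Finset.univ (fun g : G => (g : G ⧸ K)) F, Subgroup.index_eq_card,
      Nat.card_eq_fintype_card,
      show ((Fintype.card (G ⧸ K) : ℕ) : ℂ) * ∑ k : K, F k = ∑ _q : G ⧸ K, ∑ k : K, F k by
      rw [Finset.sum_const, Finset.card_univ, nsmul_eq_mul]]
    refine Finset.sum_congr rfl fun q _ => ?_
    rw [← hcoset q, show Finset.univ.filter (fun g : G => (g : G ⧸ K) = q) =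
      (Finset.univ : Finset K).map (⟨fun k : K => q.out * (k : G),
        (mul_right_injective q.out).comp Subtype.val_injective⟩ : K ↪ G) from ?_, Finset.sum_map]
    · rfl
    ext g
    simp only [Finset.mem_filter, Finset.mem_univ, true_and, Finset.mem_map,
      Function.Embedding.coeFn_mk]
    constructor
    · intro hg
      refine ⟨⟨q.out⁻¹ * g, ?_⟩, mul_inv_cancel_left _ _⟩
      rw [← QuotientGroup.eq_one_iff, QuotientGroup.mk_mul, QuotientGroup.mk_inv,
        QuotientGroup.out_eq', hg, inv_mul_cancel]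
    · rintro ⟨k, rfl⟩
      rw [QuotientGroup.mk_mul, QuotientGroup.out_eq', (QuotientGroup.eq_one_iff _).2 k.2, mul_one]
  have hnorm := Char.classInner_irr_self η.2
  rw [classInner] at hnorm
  simp only [← CharInt.char_inv (Char.irr_isCharacter η)] at hnorm
  rw [hdec] at hnorm
  have hψn := Char.classInner_irr_self ψ.2
  rw [classInner] at hψn
  simp only [← CharInt.char_inv (Char.irr_isCharacter ψ)] at hψn
  simp only [F, ← Subgroup.coe_inv, hres] at hnorm
  have hGK : (Nat.card G : ℂ) = Nat.card K * K.index := by exact_mod_cast K.card_mul_index.symm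
  have hK0 : (Nat.card K : ℂ) ≠ 0 := Nat.cast_ne_zero.2 Nat.card_pos.ne'
  have hi0 : (K.index : ℂ) ≠ 0 := Nat.cast_ne_zero.2 Subgroup.index_ne_zero_of_finite
  have he2 : e * e = 1 := by
    rw [show ∑ k : K, e * ψ.1 k * (e * ψ.1 k⁻¹) = e * e * ∑ k : K, ψ.1 k * ψ.1 k⁻¹ by
      rw [Finset.mul_sum]; exact Finset.sum_congr rfl fun k _ => by ring, hGK] at hnorm
    field_simp at hψn
    rw [hψn] at hnorm
    field_simp at hnorm
    linear_combination hnorm
  obtain ⟨n, hn⟩ := Char.IsCharacter.exists_nat_classInner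
    (Char.IsCharacter.restrict (Char.irr_isCharacter η) K) (Char.irr_isCharacter ψ)
  have hn' : e = (n : ℂ) := hn
  rw [hn'] at he2
  have : n * n = 1 := by exact_mod_cast he2
  intro k
  rw [hres, hn', Nat.eq_one_of_mul_eq_one_left this, Nat.cast_one, one_mul]

/-- Everything over the principal block of `K` is in the principal block. -/
theorem mem_of_over {η : IrrCharacter G} {ψ : IrrCharacter K} (hψ : ψ ∈ principalBlock M K)
    (h : classInner (Char.resFun K η.1) ψ.1 ≠ 0) : η ∈ principalBlock M G := by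
  haveI := hM.2.1
  obtain ⟨η₀, hη₀, h0⟩ := BlockCount.exists_principalBlock_over (G := G) K hM hψ
  rw [Char.classInner_indFun K _ (Char.IsCharacter.isClassFunction (Char.irr_isCharacter η₀)),
    ← Char.conj_classInner, map_ne_zero] at h0
  have e1 := restrict_eq hM hreg hcov hψ h
  have e0 := restrict_eq hM hreg hcov hψ h0
  refine SameBlock.trans (show SameBlock M (Char.trivialChar G).1 η₀.1 from hη₀)
    (Blocks.sameBlock_of_regular hM.2.2 fun g hg => ?_)
  have hg' := hreg g hg
  rw [centralChar, centralChar, show η₀.1 g = η.1 g from (e0 ⟨g, hg'⟩).trans (e1 ⟨g, hg'⟩).symm,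
    show η₀.1 1 = η.1 1 from (e0 1).trans (e1 1).symm, sub_self]
  exact memLocalIdeal_zero

/-- The kernel of the principal block on `K`. -/
theorem sum_block_eq (m m' : K) :
    ∑ η ∈ Finset.univ.filter (· ∈ principalBlock M G), η.1 m * conj (η.1 m') =
      (K.index : ℂ) * ∑ ψ ∈ Finset.univ.filter (· ∈ principalBlock M K), ψ.1 m * conj (ψ.1 m') := by
  haveI := hM.2.1
  obtain ⟨k, hk1, -, -, hk4⟩ := BlockCount.exists_multiplicity (G := G) K
  have hover : ∀ η ∈ Finset.univ.filter (· ∈ principalBlock M G),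
      ∃ ψ ∈ principalBlock M K, k η ψ ≠ 0 := fun η hη => by
    by_contra hh
    push Not at hh
    have hall : ∀ ψ, k η ψ = 0 := fun ψ => by
      by_contra hne
      refine hne (hh ψ (BlockCount.constituent_mem_principalBlock K hM (Finset.mem_filter.1 hη).2 ?_))
      rw [hk1]
      exact Nat.cast_ne_zero.2 hne
    have h1 := Char.eq_sum_classInner_smul
      (Char.IsCharacter.isClassFunction (Char.IsCharacter.restrict (Char.irr_isCharacter η) K))
    have h2 := congrFun h1 1
    rw [Finset.sum_apply, Finset.sum_eq_zero fun ψ _ => ?_] at h2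
    · exact irr_one_ne_zero η h2
    · rw [Pi.smul_apply, show classInner (fun x : K => η.1 x) ψ.1 = 0 from
        (hk1 η ψ).trans (by rw [hall, Nat.cast_zero]), zero_smul]
  choose f hf hfk using hover
  have hne : ∀ η ψ, k η ψ ≠ 0 → classInner (Char.resFun K η.1) ψ.1 ≠ 0 := fun η ψ h => by
    rw [hk1]; exact Nat.cast_ne_zero.2 h
  have hone : ∀ (η : IrrCharacter G) (ψ : IrrCharacter K), ψ ∈ principalBlock M K → k η ψ ≠ 0 →
      k η ψ = 1 ∧ ∀ θ : IrrCharacter K, k η θ ≠ 0 → θ = ψ := fun η ψ hψ h => by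
    have hres : Char.resFun K η.1 = ψ.1 := funext fun x =>
      restrict_eq hM hreg hcov hψ (hne η ψ h) x
    refine ⟨?_, fun θ hθ => ?_⟩
    · have := hk1 η ψ
      rw [hres, Char.classInner_irr_self ψ.2] at this
      exact_mod_cast this.symm
    · by_contra hne'
      refine hne η θ hθ ?_
      rw [hres]
      exact Char.classInner_irr_of_ne ψ.2 θ.2 fun e => hne' (Subtype.ext e.symm)
  calc ∑ η ∈ Finset.univ.filter (· ∈ principalBlock M G), η.1 m * conj (η.1 m')
      = ∑ η ∈ Finset.univ.filter (· ∈ principalBlock M G),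
          ∑ ψ ∈ Finset.univ.filter (· ∈ principalBlock M K),
            (k η ψ : ℂ) * (ψ.1 m * conj (ψ.1 m')) := by
        refine Finset.sum_congr rfl fun η hη => ?_
        rw [Finset.sum_eq_single (f η hη) (fun θ _ hθ => ?_) (fun hh => absurd
          (Finset.mem_filter.2 ⟨Finset.mem_univ _, hf η hη⟩) hh),
          (hone η _ (hf η hη) (hfk η hη)).1, Nat.cast_one, one_mul,
          restrict_eq hM hreg hcov (hf η hη) (hne _ _ (hfk η hη)) m,
          restrict_eq hM hreg hcov (hf η hη) (hne _ _ (hfk η hη)) m']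
        by_cases h0 : k η θ = 0
        · rw [h0, Nat.cast_zero, zero_mul]
        · exact absurd ((hone η _ (hf η hη) (hfk η hη)).2 θ h0) hθ
    _ = _ := by
        rw [Finset.sum_comm, Finset.mul_sum]
        refine Finset.sum_congr rfl fun ψ hψ => ?_
        rw [← Finset.sum_mul]
        congr 1
        have hψ' := (Finset.mem_filter.1 hψ).2
        have hd : ∀ η : IrrCharacter G,
            k η ψ * charDegree η.1 = k η ψ * charDegree ψ.1 := fun η => by
          by_cases h0 : k η ψ = 0
          · rw [h0, zero_mul, zero_mul]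
          · have e := restrict_eq hM hreg hcov hψ' (hne η ψ h0) 1
            rw [Subgroup.coe_one] at e
            have : (charDegree η.1 : ℂ) = charDegree ψ.1 := by
              rw [Char.charDegree_cast, Char.charDegree_cast, e]
            rw [Nat.cast_inj.1 this]
        have h4 := hk4 ψ
        simp only [hd, ← Finset.sum_mul] at h4
        have h5 : K.index = ∑ η, k η ψ := Nat.eq_of_mul_eq_mul_right (by
          rw [Blocks.charDegree_eq]; exact Char.degree_pos ψ) h4
        rw [h5, Nat.cast_sum]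
        refine Finset.sum_subset (Finset.subset_univ _) fun η _ hη => ?_
        by_contra h0
        exact hη (Finset.mem_filter.2 ⟨Finset.mem_univ _,
          mem_of_over hM hreg hcov hψ' (hne η ψ fun e => h0 (by rw [e, Nat.cast_zero]))⟩)

end Cfsg.Agent.Blocks.NineInertial
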