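import Cfsg.Agent.S0215
import Mathlib.GroupTheory.Transfer
import Mathlib.GroupTheory.Sylow
import Mathlib.GroupTheory.Complement

/-!
# The centraliser of an involution with a direct factor fixed by the normaliser

If `P = V × W` is an abelian Sylow 2-subgroup, every element of `N(P) ∩ C(x)` centralises `V` and
every element of `W` is a commutator with such an element, then transfer gives a normal subgroup
`K` of `C(x)` of index `|V|` containing `W`, and `V` is central modulo odd normal subgroups.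
-/

set_option autoImplicit false
set_option linter.style.haveILetI false

namespace Cfsg.Agent.Blocks.NineInertial

universe u

variable {G : Type u} [Group G] [Finite G]

set_option maxHeartbeats 800000 in
theorem exists_kernel (P : Sylow 2 G) (hPc : ∀ a ∈ (P : Subgroup G), ∀ b ∈ (P : Subgroup G),
    a * b = b * a) {x : G} (hxP : x ∈ (P : Subgroup G)) {V W : Subgroup G}
    (hV : V ≤ (P : Subgroup G)) (hW : W ≤ (P : Subgroup G)) (hVW : Disjoint V W)
    (hgen : ∀ a ∈ (P : Subgroup G), ∃ v ∈ V, ∃ w ∈ W, v * w = a)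
    (hV2 : ∀ v ∈ V, v * v = 1)
    (hfix : ∀ n ∈ Subgroup.normalizer ((P : Subgroup G) : Set G), n * x = x * n →
      ∀ v ∈ V, n * v = v * n)
    (hcomm : ∀ w ∈ W, ∃ n ∈ Subgroup.normalizer ((P : Subgroup G) : Set G), n * x = x * n ∧
      ∃ w' ∈ W, w = n * w' * n⁻¹ * w'⁻¹) :
    ∃ K : Subgroup (Subgroup.centralizer ({x} : Set G)), K.Normal ∧ K.index = Nat.card V ∧
      (∀ c : Subgroup.centralizer ({x} : Set G), (c : G) ∈ W → c ∈ K) ∧
      (∀ c : Subgroup.centralizer ({x} : Set G), Odd (orderOf c) → c ∈ K) ∧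
      (∀ c : Subgroup.centralizer ({x} : Set G), (c : G) ∈ V → c ∈ K → c = 1) ∧
      ∀ c : Subgroup.centralizer ({x} : Set G), (c : G) ∈ V →
        ∃ N : Subgroup (Subgroup.centralizer ({x} : Set G)), N.Normal ∧ Odd (Nat.card N) ∧
          ∀ k, c * k * c⁻¹ * k⁻¹ ∈ N := by
  haveI : Fact (Nat.Prime 2) := ⟨Nat.prime_two⟩
  set C := Subgroup.centralizer ({x} : Set G)
  have hPC : (P : Subgroup G) ≤ C := fun y hy =>
    Subgroup.mem_centralizer_singleton_iff.2 (hPc y hy x hxP)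
  set S : Sylow 2 C := P.subtype hPC with hS
  have hSmem : ∀ c : C, c ∈ (S : Subgroup C) ↔ (c : G) ∈ (P : Subgroup G) := fun c => Iff.rfl
  have hScent : ∀ c : C, (c : G) ∈ (P : Subgroup G) →
      c ∈ Subgroup.centralizer ((S : Subgroup C) : Set C) := fun c hc =>
    Subgroup.mem_centralizer_iff.2 fun d hd => Subtype.ext (hPc d ((hSmem d).1 hd) c hc)
  -- elements of `V` are isolated in `C`
  have hiso : ∀ (v g : C), (v : G) ∈ V → g⁻¹ * v * g ∈ (S : Subgroup C) → g⁻¹ * v * g = v := by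
    intro v g hv hg
    obtain ⟨n, hn, e⟩ := Sylow.conj_eq_normalizer_conj_of_mem_centralizer S v g
      (hScent v (hV hv)) (hScent _ ((hSmem _).1 hg))
    rw [e]
    have hn' : (n : G) ∈ Subgroup.normalizer ((P : Subgroup G) : Set G) := by
      refine Subgroup.mem_normalizer_iff.2 fun a => ⟨fun ha => ?_, fun ha => ?_⟩
      · exact (hSmem _).1 ((Subgroup.mem_normalizer_iff.1 hn ⟨a, hPC ha⟩).1 ((hSmem _).2 ha))
      · have ha' : a ∈ C := by
          have h1 := C.mul_mem (C.mul_mem (C.inv_mem n.2) (hPC ha)) n.2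
          simpa [mul_assoc] using h1
        exact (hSmem ⟨a, ha'⟩).1 ((Subgroup.mem_normalizer_iff.1 hn ⟨a, ha'⟩).2 ((hSmem _).2 ha))
    have h1 := hfix n hn' (Subgroup.mem_centralizer_singleton_iff.1 n.2) v hv
    refine Subtype.ext ?_
    show (n : G)⁻¹ * v * n = v
    rw [mul_assoc, ← h1, inv_mul_cancel_left]
  -- the projection to `V`
  letI : CommGroup V :=
    { (inferInstance : Group V) with
      mul_comm := fun a b => Subtype.ext (hPc a (hV a.2) b (hV b.2)) }
  have hdec : ∀ a : (S : Subgroup C), ∃ v : V, ∃ w : W, (v : G) * w = ((a : C) : G) := fun a => by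
    obtain ⟨v, hv, w, hw, e⟩ := hgen _ ((hSmem a).1 a.2)
    exact ⟨⟨v, hv⟩, ⟨w, hw⟩, e⟩
  choose fv fw hfvw using hdec
  have huniq : ∀ (v v' : V) (w w' : W), (v : G) * w = v' * w' → v = v' := by
    intro v v' w w' e
    have h1 : (v' : G)⁻¹ * v = w' * (w : G)⁻¹ := by
      rw [inv_mul_eq_iff_eq_mul, ← mul_assoc, eq_mul_inv_iff_mul_eq, e]
    have h2 : (v' : G)⁻¹ * v ∈ V ⊓ W :=
      Subgroup.mem_inf.2 ⟨V.mul_mem (V.inv_mem v'.2) v.2, h1 ▸ W.mul_mem w'.2 (W.inv_mem w.2)⟩
    rw [hVW.eq_bot, Subgroup.mem_bot, inv_mul_eq_one] at h2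
    exact Subtype.ext h2.symm
  let φ : (S : Subgroup C) →* V := MonoidHom.mk' fv fun a b => huniq _ _ (fw (a * b)) (fw a * fw b) (by
    rw [hfvw, Subgroup.coe_mul, Subgroup.coe_mul, Subgroup.coe_mul, ← hfvw, ← hfvw,
      Subgroup.coe_mul]
    calc (fv a : G) * fw a * (fv b * fw b) = fv a * ((fw a : G) * fv b) * fw b := by group
      _ = _ := by rw [hPc _ (hW (fw a).2) _ (hV (fv b).2)]; group)
  have hφ : ∀ (a : (S : Subgroup C)) (v : V) (w : W), (v : G) * w = ((a : C) : G) → φ a = v :=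
    fun a v w e => huniq _ _ (fw a) w ((hfvw a).trans e.symm)
  set τ : C →* V := MonoidHom.transfer φ
  have hodd : Odd (S : Subgroup C).index :=
    Nat.odd_iff.2 (by have := S.not_dvd_index; omega)
  have hτV : ∀ c : C, ∀ hc : (c : G) ∈ V, τ c = ⟨c, hc⟩ := by
    intro c hc
    have key : ∀ (k : ℕ) (g₀ : C), g₀⁻¹ * c ^ k * g₀ ∈ (S : Subgroup C) →
        g₀⁻¹ * c ^ k * g₀ = c ^ k := fun k g₀ hk => by
      refine hiso _ g₀ ?_ hk
      rw [Subgroup.coe_pow]
      exact pow_mem hc k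
    rw [show τ c = φ ⟨c ^ (S : Subgroup C).index, _⟩ from MonoidHom.transfer_eq_pow φ c key]
    obtain ⟨m, hm⟩ := hodd
    refine hφ _ _ 1 ?_
    show (c : G) * ((1 : W) : G) = ((c ^ (S : Subgroup C).index : C) : G)
    rw [hm, Subgroup.coe_pow, pow_succ, pow_mul, pow_two, hV2 _ hc, one_pow, one_mul,
      Subgroup.coe_one, mul_one]
  have hoddK : ∀ c : C, Odd (orderOf c) → τ c = 1 := fun c hc => by
    have h1 : orderOf (τ c) ∣ orderOf c := orderOf_map_dvd τ c
    have h2 : orderOf (τ c) ∣ 2 :=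
      orderOf_dvd_of_pow_eq_one (Subtype.ext (by simp [pow_two, hV2 _ (τ c).2]))
    exact orderOf_eq_one_iff.1 (Nat.eq_one_of_dvd_coprimes (Nat.coprime_two_right.2 hc) h1 h2)
  refine ⟨τ.ker, inferInstance, ?_, ?_, hoddK, ?_, ?_⟩
  · rw [Subgroup.index_ker, MonoidHom.range_eq_top.2 fun v =>
      ⟨⟨v, hPC (hV v.2)⟩, hτV _ v.2⟩, Subgroup.card_top]
  · intro c hc
    obtain ⟨n, hn, hnx, w', hw', e⟩ := hcomm _ hc
    have : c = ⟨n, Subgroup.mem_centralizer_singleton_iff.2 hnx⟩ * ⟨w', hPC (hW hw')⟩ *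
        (⟨n, Subgroup.mem_centralizer_singleton_iff.2 hnx⟩ : C)⁻¹ * (⟨w', hPC (hW hw')⟩ : C)⁻¹ :=
      Subtype.ext e
    rw [MonoidHom.mem_ker, this]
    rw [map_mul, map_mul, map_mul, map_inv, map_inv, mul_inv_cancel_comm, mul_inv_cancel]
  · intro c hc hk
    rw [MonoidHom.mem_ker, hτV c hc] at hk
    exact Subtype.ext (congrArg (fun v : V => (v : G)) hk)
  · intro c hc
    by_cases hc1 : c = 1
    · exact ⟨⊥, inferInstance, by simp, fun k => by simp [hc1]⟩
    · have ho : orderOf c = 2 := orderOf_eq_prime (Subtype.ext (by simp [pow_two, hV2 _ hc])) hc1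
      exact S0215.result S c ho ((hSmem c).2 (hV hc)) fun g hg => by
        have := hiso c g⁻¹ hc (by rw [inv_inv]; exact hg)
        simpa using this

end Cfsg.Agent.Blocks.NineInertial
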