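import Mathlib.Algebra.Order.BigOperators.Group.Finset
import Mathlib.Algebra.BigOperators.Ring.Finset
import Mathlib.Data.Fintype.BigOperators
import Mathlib.Tactic.Ring
import Mathlib.Tactic.Linarith
import Mathlib.Tactic.LinearCombination
import Mathlib.Tactic.FinCases
import Mathlib.Tactic.IntervalCases

/-!
# Two quadruples of orthogonal integer vectors with a common nowhere vanishing sum

If `b i`, `c i` (`i : Fin 4`) are orthogonal integer vectors of norm `4` with `b i · c l = 1` and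
the same nowhere vanishing sum `d`, and there are at least `9` coordinates, there are `16`.
-/

set_option autoImplicit false

namespace Cfsg.Agent.Blocks.NineInertial

open Finset

variable {ι : Type*} [Fintype ι] [DecidableEq ι] {b c : Fin 4 → ι → ℤ} {d : ι → ℤ}

theorem entry_le (hb : ∀ i l, ∑ χ, b i χ * b l χ = if i = l then 4 else 0)
    (hbc : ∀ i l, ∑ χ, b i χ * c l χ = 1) (i : Fin 4) (χ : ι) :
    b i χ = 0 ∨ b i χ = 1 ∨ b i χ = -1 := by
  by_contra h
  push Not at h
  have hsq : 4 ≤ b i χ * b i χ := by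
    rcases le_or_gt 2 (b i χ) with h2 | h2
    · nlinarith
    · have : b i χ ≤ -2 := by omega
      nlinarith
  have hsum := hb i i
  rw [if_pos rfl, ← Finset.add_sum_erase _ _ (mem_univ χ)] at hsum
  have hrest : ∑ x ∈ univ.erase χ, b i x * b i x = 0 :=
    le_antisymm (by linarith) (sum_nonneg fun x _ => mul_self_nonneg _)
  have hz := (sum_eq_zero_iff_of_nonneg fun x _ => mul_self_nonneg (b i x)).1 hrest
  have h1 := hbc i 0
  rw [Finset.sum_eq_single χ (fun x _ hx => by
    rw [mul_self_eq_zero.1 (hz x (mem_erase.2 ⟨hx, mem_univ x⟩)), zero_mul])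
    (fun hh => absurd (mem_univ χ) hh)] at h1
  rcases Int.mul_eq_one_iff_eq_one_or_neg_one.1 h1 with ⟨e, -⟩ | ⟨e, -⟩
  · exact h.2.1 e
  · exact h.2.2 e

theorem sum_sq (hbd : ∀ χ, ∑ i, b i χ = d χ)
    (hb : ∀ i l, ∑ χ, b i χ * b l χ = if i = l then 4 else 0) : ∑ χ, d χ * d χ = 16 := by
  simp only [← hbd, Finset.sum_mul, Finset.mul_sum]
  rw [Finset.sum_comm]
  simp only [Finset.sum_comm (s := (univ : Finset ι)), hb]
  simp

theorem weight_sum (hbd : ∀ χ, ∑ i, b i χ = d χ)
    (hb : ∀ i l, ∑ χ, b i χ * b l χ = if i = l then 4 else 0) (i : Fin 4) :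
    ∑ χ, (b i χ * d χ - b i χ * b i χ) = 0 := by
  simp only [Finset.sum_sub_distrib, ← hbd, Finset.mul_sum]
  rw [Finset.sum_comm]
  simp only [hb]
  simp

/-- On two rows with `|d| = 2`, all others having `|d| = 1`, an entry vanishes at both or is half
of `d` at both. -/
theorem two_rows (hb : ∀ i l, ∑ χ, b i χ * b l χ = if i = l then 4 else 0)
    (hbd : ∀ χ, ∑ i, b i χ = d χ) (hbc : ∀ i l, ∑ χ, b i χ * c l χ = 1) {A B : ι} (hAB : A ≠ B)
    (hA : d A = 2 ∨ d A = -2) (hB : d B = 2 ∨ d B = -2)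
    (hrest : ∀ χ, χ ≠ A → χ ≠ B → d χ = 1 ∨ d χ = -1) (i : Fin 4) :
    (b i A = 0 ∧ b i B = 0) ∨ (2 * b i A = d A ∧ 2 * b i B = d B) := by
  have h := weight_sum hbd hb i
  rw [← Finset.add_sum_erase _ _ (mem_univ A),
    ← Finset.add_sum_erase _ _ (mem_erase.2 ⟨hAB.symm, mem_univ B⟩)] at h
  obtain ⟨T, hT, hTle⟩ : ∃ T, ∑ χ ∈ (univ.erase A).erase B,
      (b i χ * d χ - b i χ * b i χ) = 2 * T ∧ T ≤ 0 := by
    refine Finset.sum_induction _ (fun z => ∃ T, z = 2 * T ∧ T ≤ 0)
      (fun x y ⟨T, hT, hT'⟩ ⟨U, hU, hU'⟩ => ⟨T + U, by rw [hT, hU]; ring, by omega⟩)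
      ⟨0, by simp⟩ fun χ hχ => ?_
    simp only [mem_erase, ne_eq] at hχ
    rcases hrest χ hχ.2.1 hχ.1 with e | e <;>
      rcases entry_le hb hbc i χ with f | f | f <;> rw [e, f] <;>
      first | (refine ⟨0, ?_⟩; norm_num; done) | (refine ⟨-1, ?_⟩; norm_num; done)
  rw [hT] at h
  rcases hA with e | e <;> rcases hB with e' | e' <;>
    rcases entry_le hb hbc i A with f | f | f <;> rcases entry_le hb hbc i B with f' | f' | f' <;>
    rw [e, e', f, f'] at h ⊢ <;> simp at h ⊢ <;> omega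

/-- There are sixteen coordinates. -/
theorem card_eq_sixteen (hk : 9 ≤ Fintype.card ι) (hd0 : ∀ χ, d χ ≠ 0)
    (hbd : ∀ χ, ∑ i, b i χ = d χ) (hcd : ∀ χ, ∑ i, c i χ = d χ)
    (hb : ∀ i l, ∑ χ, b i χ * b l χ = if i = l then 4 else 0)
    (hc : ∀ i l, ∑ χ, c i χ * c l χ = if i = l then 4 else 0)
    (hbc : ∀ i l, ∑ χ, b i χ * c l χ = 1) : Fintype.card ι = 16 := by
  have hcb : ∀ i l, ∑ χ, c i χ * b l χ = 1 := fun i l => by
    rw [← hbc l i]; exact sum_congr rfl fun χ _ => mul_comm _ _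
  have h16 := sum_sq hbd hb
  have hpos : ∀ χ, 1 ≤ d χ * d χ := fun χ => mul_self_pos.2 (hd0 χ)
  have hexc : ∑ χ, (d χ * d χ - 1) = 16 - (Fintype.card ι : ℤ) := by
    rw [sum_sub_distrib, h16, sum_const, card_univ, nsmul_eq_mul, mul_one]
  have hd2 : ∀ χ, (d χ = 2 ∨ d χ = -2) ∨ (d χ = 1 ∨ d χ = -1) := fun χ => by
    have h1 := single_le_sum (f := fun χ => d χ * d χ - 1)
      (fun x _ => sub_nonneg.2 (hpos x)) (mem_univ χ)
    have h2 : d χ * d χ ≤ 8 := by
      simp only [hexc] at h1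
      omega
    have h3 : d χ ≤ 2 := by nlinarith
    have h4 : -2 ≤ d χ := by nlinarith
    have h5 := hd0 χ
    omega
  set H := univ.filter fun χ => d χ = 2 ∨ d χ = -2 with hH
  have hmem : ∀ χ, χ ∈ H ↔ (d χ = 2 ∨ d χ = -2) := fun χ => by simp [hH]
  have hcard : 3 * (H.card : ℤ) = 16 - (Fintype.card ι : ℤ) := by
    rw [← hexc, ← sum_filter_add_sum_filter_not univ (fun χ => d χ = 2 ∨ d χ = -2) fun χ =>
      d χ * d χ - 1, sum_congr rfl (g := fun _ => (3 : ℤ)) fun χ hχ => ?_, sum_const,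
      nsmul_eq_mul, ← hH, sum_eq_zero fun χ hχ => ?_, add_zero, mul_comm]
    · rcases (hd2 χ).resolve_left (mem_filter.1 hχ).2 with e | e <;> rw [e] <;> norm_num
    · rcases (mem_filter.1 hχ).2 with e | e <;> rw [e] <;> norm_num
  rcases (show H.card = 0 ∨ H.card = 1 ∨ H.card = 2 by omega) with h0 | h1 | h2
  · omega
  · exfalso
    obtain ⟨A, hA⟩ := card_eq_one.1 h1
    have hAd := (hmem A).1 (by rw [hA]; exact mem_singleton_self A)
    have hz : ∀ i, b i A = 0 := fun i => by
      have h := weight_sum hbd hb i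
      rw [← Finset.add_sum_erase _ _ (mem_univ A)] at h
      obtain ⟨T, hT, hTle⟩ : ∃ T, ∑ χ ∈ univ.erase A,
          (b i χ * d χ - b i χ * b i χ) = 2 * T ∧ T ≤ 0 := by
        refine Finset.sum_induction _ (fun z => ∃ T, z = 2 * T ∧ T ≤ 0)
          (fun x y ⟨T, hT, hT'⟩ ⟨U, hU, hU'⟩ => ⟨T + U, by rw [hT, hU]; ring, by omega⟩)
          ⟨0, by simp⟩ fun χ hχ => ?_
        have hne : χ ∉ H := by rw [hA, mem_singleton]; exact (mem_erase.1 hχ).1
        rcases (hd2 χ).resolve_left (fun e => hne ((hmem χ).2 e)) with e | e <;>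
          rcases entry_le hb hbc i χ with f | f | f <;> rw [e, f] <;>
          first | (refine ⟨0, ?_⟩; norm_num; done) | (refine ⟨-1, ?_⟩; norm_num; done)
      rw [hT] at h
      rcases hAd with e | e <;> rcases entry_le hb hbc i A with f | f | f <;> rw [e, f] at h <;>
        simp at h <;> omega
    exact hd0 A (by rw [← hbd A]; exact sum_eq_zero fun i _ => hz i)
  · exfalso
    obtain ⟨A, B, hAB, hH2⟩ := card_eq_two.1 h2
    have hAd := (hmem A).1 (by rw [hH2]; simp)
    have hBd := (hmem B).1 (by rw [hH2]; simp)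
    have hrest : ∀ χ, χ ≠ A → χ ≠ B → d χ = 1 ∨ d χ = -1 := fun χ ha hb' =>
      (hd2 χ).resolve_left fun e => by
        have := (hmem χ).2 e
        rw [hH2, mem_insert, mem_singleton] at this
        tauto
    have tb := two_rows hb hbd hbc hAB hAd hBd hrest
    have tc := two_rows hc hcd hcb hAB hAd hBd hrest
    -- two indices with `b` nonzero at `A`
    set I := univ.filter fun i => b i A ≠ 0 with hI
    have hIcard : I.card = 2 := by
      have h3 : ∑ i, 2 * b i A = (I.card : ℤ) * d A := by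
        rw [← sum_filter_add_sum_filter_not univ (fun i => b i A ≠ 0) fun i => 2 * b i A,
          sum_congr rfl (g := fun _ => d A) fun i hi => ?_, sum_const, nsmul_eq_mul, ← hI,
          sum_eq_zero fun i hi => ?_, add_zero]
        · rw [not_not.1 (mem_filter.1 hi).2, mul_zero]
        · exact ((tb i).resolve_left fun e => (mem_filter.1 hi).2 e.1).1
      rw [← Finset.mul_sum, hbd] at h3
      have := mul_right_cancel₀ (hd0 A) h3
      omega
    obtain ⟨i, l, hil, hI2⟩ := card_eq_two.1 hIcard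
    have hiI : i ∈ I := by rw [hI2]; simp
    have hlI : l ∈ I := by rw [hI2]; simp
    obtain ⟨hiA, hiB⟩ := (tb i).resolve_left fun e => (mem_filter.1 hiI).2 e.1
    obtain ⟨hlA, hlB⟩ := (tb l).resolve_left fun e => (mem_filter.1 hlI).2 e.1
    have hu : ∑ χ, (b i χ + b l χ) * (b i χ + b l χ) = 8 := by
      simp only [add_mul, mul_add, sum_add_distrib, hb, if_pos rfl, if_neg hil, if_neg hil.symm]
      norm_num
    rw [← Finset.add_sum_erase _ _ (mem_univ A),
      ← Finset.add_sum_erase _ _ (mem_erase.2 ⟨hAB.symm, mem_univ B⟩),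
      show b i A + b l A = d A by omega, show b i B + b l B = d B by omega] at hu
    have hAA : d A * d A = 4 := by rcases hAd with e | e <;> rw [e] <;> norm_num
    have hBB : d B * d B = 4 := by rcases hBd with e | e <;> rw [e] <;> norm_num
    have hz := (sum_eq_zero_iff_of_nonneg fun x _ => mul_self_nonneg (b i x + b l x)).1
      (show ∑ χ ∈ (univ.erase A).erase B, (b i χ + b l χ) * (b i χ + b l χ) = 0 by linarith)
    have huc : ∑ χ, (b i χ + b l χ) * c 0 χ = 2 := by
      simp only [add_mul, sum_add_distrib, hbc]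
      norm_num
    rw [← Finset.add_sum_erase _ _ (mem_univ A),
      ← Finset.add_sum_erase _ _ (mem_erase.2 ⟨hAB.symm, mem_univ B⟩),
      sum_eq_zero (fun χ hχ => by rw [mul_self_eq_zero.1 (hz χ hχ), zero_mul]),
      show b i A + b l A = d A by omega, show b i B + b l B = d B by omega, add_zero] at huc
    rcases tc 0 with ⟨e, e'⟩ | ⟨e, e'⟩
    · rw [e, e'] at huc; simp at huc
    · rw [← e] at hAA huc
      rw [← e'] at hBB huc
      nlinarith

end Cfsg.Agent.Blocks.NineInertial
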