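import Cfsg.Agent.Lib.Blocks.NineInertial.Local
import Cfsg.Agent.Lib.Blocks.NineInertial.Combi
import Cfsg.Agent.Lib.BrauerPairs.AlternatingSum
import Cfsg.Agent.Lib.Blocks.ThreeChars.NormalPart

/-!
# The size of the principal block with inertial index 9

Three classes of involutions carry ranks 3, 3 and 1, so `k - l = 7`; the group is not 2-nilpotent,
so `k ≥ 9`; the integer columns then force `k = 16`.
-/

set_option autoImplicit false
set_option linter.style.haveILetI false
set_option linter.unusedSectionVars false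

namespace Cfsg.Agent.Blocks.NineInertial

open Cfsg Cfsg.Agent
open scoped ComplexConjugate Classical

universe u

variable {G : Type u} [Group G] [Fintype G] {P : Sylow 2 G} {V W : Subgroup G}
  {M : Ideal AlgInt} [Fact (Nat.Prime 2)] [M.IsMaximal]

/-- Only the principal block of a centralizer induces the principal block. -/
theorem setOf_isInducedBlock (hM : IsPModular 2 M) {x : G} (hx : ∃ k, orderOf x = 2 ^ k) :
    {b : Set (IrrCharacter (Subgroup.centralizer ({x} : Set G))) |
        IsInducedBlock M (Subgroup.centralizer ({x} : Set G)) b (principalBlock M G)} =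
      {principalBlock M (Subgroup.centralizer ({x} : Set G))} := by
  have hpM := hM.2.2
  set C := Subgroup.centralizer ({x} : Set G)
  have hind := Blocks.inducingSet_principalBlock (M := M) hpM hx
  have hb : IsInducedBlock M C (principalBlock M C) (principalBlock M G) := by
    have h : Char.trivialChar C ∈ Blocks.inducingSet M C (principalBlock M G) := by
      rw [hind]; exact Blocks.trivial_mem_principalBlock
    exact h
  refine Set.eq_singleton_iff_unique_mem.2 ⟨hb, fun b hb' => ?_⟩
  obtain ⟨η, hη⟩ := Blocks.block_nonempty hb'.1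
  have h : η ∈ Blocks.inducingSet M C (principalBlock M G) := by
    show IsInducedBlock M C (blockOf M η.1) (principalBlock M G)
    rw [← Blocks.block_eq hb'.1 hη]; exact hb'
  rw [hind] at h
  rw [Blocks.block_eq hb'.1 hη, ← Blocks.block_eq (Blocks.isPBlock_principalBlock hpM) h]

theorem Side.exists_ne_one (S : Side P V W) : ∃ v ∈ V, v ≠ 1 := by
  haveI : Nontrivial V := Finite.one_lt_card_iff_nontrivial.1 (by rw [S.cardV]; norm_num)
  obtain ⟨⟨v, hv⟩, hv1⟩ := exists_ne (1 : V)
  exact ⟨v, hv, fun e => hv1 (Subtype.ext e)⟩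

/-- `k - l = 7`. -/
theorem card_eq_rank_add_seven (S : Side P V W) (S' : Side P W V) (hM : IsPModular 2 M)
    {x : G} (hxV : x ∈ V) (hx1 : x ≠ 1) {z : G} (hzW : z ∈ W) (hz1 : z ≠ 1)
    (hx3 : blockRank 2 (principalBlock M (Subgroup.centralizer ({x} : Set G))) = 3)
    (hz3 : blockRank 2 (principalBlock M (Subgroup.centralizer ({z} : Set G))) = 3) :
    Nat.card (principalBlock M G) = blockRank 2 (principalBlock M G) + 7 := by
  have hpM := hM.2.2
  have hB := Blocks.isPBlock_principalBlock hpM (M := M) (G := G)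
  have hxP := S.leV hxV
  have hzP := S.leW hzW
  have hyP : x * z ∈ (P : Subgroup G) := (P : Subgroup G).mul_mem hxP hzP
  have hy1 := S.ne_one hxV hx1 hzW
  have hpow : ∀ a : G, a ∈ (P : Subgroup G) → a ≠ 1 → ∃ k, orderOf a = 2 ^ k :=
    fun a ha ha1 => ⟨1, by rw [pow_one]; exact S.orderOf_eq_two ha ha1⟩
  choose pp hpp using fun g : G => Blocks.exists_isPPart (p := 2) g
  have hsing : ∀ g, ¬ IsPRegular 2 g ↔ pp g ≠ 1 := fun g => by
    obtain ⟨y, hy, hc, hk, hyr⟩ := hpp g
    constructor
    · intro hg e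
      rw [e, one_mul] at hy
      exact hg (hy ▸ hyr)
    · intro hne hg
      have h1 : IsPPart 2 g 1 := ⟨g, one_mul _, Commute.one_left _, ⟨0, by simp⟩, hg⟩
      exact hne (Blocks.IsPPart.unique (hpp g) h1)
  set A : G → Finset G := fun a => Finset.univ.filter fun g => IsConj a (pp g)
  have hrank : ∀ a : G, a ∈ (P : Subgroup G) → a ≠ 1 → ∀ r : ℕ,
      blockRank 2 (principalBlock M (Subgroup.centralizer ({a} : Set G))) = r →
      ∑ g ∈ A a, S4606.normAt (principalBlock M G) g = (Nat.card G : ℝ) * r := by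
    intro a ha ha1 r hr
    rw [S4606.sum_class_section hpM hB pp hpp (hpow a ha ha1),
      setOf_isInducedBlock hM (hpow a ha ha1), finsum_mem_singleton, hr]
  have hnotV : x * z ∉ V := S.mixed_notMem hxV hzW hz1
  have hnotW : x * z ∉ W := by
    rw [S.comm x hxP z hzP]
    exact S'.mixed_notMem hzW hxV hx1
  have hzV : z ∉ V := fun h => hz1 ((Subgroup.disjoint_def.1 S.disj) h hzW)
  have hne1 : ¬ IsConj x z := S.not_isConj hxV hzP hzV
  have hne2 : ¬ IsConj x (x * z) := S.not_isConj hxV hyP hnotV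
  have hne3 : ¬ IsConj z (x * z) := S'.not_isConj hzW hyP hnotW
  have hdisj : ∀ a b : G, ¬ IsConj a b → Disjoint (A a) (A b) := fun a b h =>
    Finset.disjoint_filter.2 fun g _ ha hb => h (ha.trans hb.symm)
  have hunion : (Finset.univ.filter fun g : G => ¬ IsPRegular 2 g) =
      (A x ∪ A z) ∪ A (x * z) := by
    ext g
    simp only [A, Finset.mem_filter, Finset.mem_univ, true_and, Finset.mem_union]
    rw [hsing]
    constructor
    · intro hg
      obtain ⟨R, hR⟩ := (IsPGroup.of_card (p := 2) (n := (Blocks.IsPPart.isPElement (hpp g)).choose)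
        (G := Subgroup.zpowers (pp g))
        (by rw [Nat.card_zpowers]; exact (Blocks.IsPPart.isPElement (hpp g)).choose_spec)).exists_le_sylow
      obtain ⟨c, hc⟩ := MulAction.exists_smul_eq G R P
      have hm : c * pp g * c⁻¹ ∈ (P : Subgroup G) := by
        rw [← hc, Sylow.coe_subgroup_smul]
        exact ⟨pp g, hR (Subgroup.mem_zpowers _), rfl⟩
      obtain ⟨v, hv, w, hw, e⟩ := S.gen _ hm
      have hconj : IsConj (v * w) (pp g) := (isConj_iff.2 ⟨c, e.symm⟩ : IsConj (pp g) (v * w)).symm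
      by_cases hv1 : v = 1
      · have hw1 : w ≠ 1 := fun hw1 => by
          rw [hv1, hw1, one_mul] at e
          exact hg (conj_eq_one_iff.1 e.symm)
        subst hv1
        rw [one_mul] at hconj
        obtain ⟨n, -, -, hn⟩ := S.transW x hxV hx1 z hzW hz1 w hw hw1
        exact Or.inl (Or.inr ((isConj_iff.2 ⟨n, hn⟩ : IsConj z w).trans hconj))
      · by_cases hw1 : w = 1
        · subst hw1
          rw [mul_one] at hconj
          obtain ⟨n, -, -, hn⟩ := S'.transW z hzW hz1 x hxV hx1 v hv hv1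
          exact Or.inl (Or.inl ((isConj_iff.2 ⟨n, hn⟩ : IsConj x v).trans hconj))
        · exact Or.inr ((S.mixedConj x hxV hx1 z hzW hz1 v hv hv1 w hw hw1).trans hconj)
    · rintro ((h | h) | h) e <;> rw [e] at h
      · exact hx1 (isConj_one_left.1 h)
      · exact hz1 (isConj_one_left.1 h)
      · exact hy1 (isConj_one_left.1 h)
  have h := BrauerPairs.card_sub_blockRank_union hpM (U := principalBlock M G)
    (fun η hη ψ hψ => by rw [Blocks.block_eq hB hη]; exact hψ)
  rw [Finset.sum_congr rfl fun g _ => (S4606.normAt_coe (principalBlock M G) g).symm] at h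
  have hR : (Nat.card G : ℝ) * ((Nat.card (principalBlock M G) : ℝ) -
      blockRank 2 (principalBlock M G)) =
      ∑ g ∈ Finset.univ.filter (fun g : G => ¬ IsPRegular 2 g),
        S4606.normAt (principalBlock M G) g := by
    refine Complex.ofReal_injective ?_
    simp only [Complex.ofReal_sum, ← h]
    push_cast
    rfl
  rw [hunion, Finset.sum_union (Finset.disjoint_union_left.2 ⟨hdisj _ _ hne2, hdisj _ _ hne3⟩),
    Finset.sum_union (hdisj _ _ hne1), hrank x hxP hx1 3 hx3, hrank z hzP hz1 3 hz3,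
    hrank _ hyP hy1 1 (S.blockRank_mixed hM hxV hx1 hzW hz1)] at hR
  have h7 : (Nat.card (principalBlock M G) : ℝ) =
      ((blockRank 2 (principalBlock M G) + 7 : ℕ) : ℝ) := by
    have hG : (Nat.card G : ℝ) ≠ 0 := Nat.cast_ne_zero.2 Nat.card_pos.ne'
    apply mul_left_cancel₀ hG
    push_cast at hR ⊢
    linear_combination hR
  exact_mod_cast h7

/-- The group is not 2-nilpotent. -/
theorem two_le_rank (S : Side P V W) (hM : IsPModular 2 M) :
    2 ≤ blockRank 2 (principalBlock M G) := by
  by_contra hlt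
  have h1 := ThreeChars.one_le_blockRank (p := 2)
    (Blocks.isPBlock_principalBlock hM.2.2 (M := M) (G := G))
  haveI : CharP (AlgInt ⧸ M) 2 := Blocks.charP_residue hM.2.2
  have hnp : HasNormalPComplement 2 G :=
    BrauerPairs.isNilpotentBlock_principal_iff.1 ((S4646.result 2 M hM).2 (by omega))
  obtain ⟨hidx, -⟩ := DefectOne.index_pPrimeCore_of_hasNormalPComplement hnp
  set O := pPrimeCore 2 G
  have hcard : Nat.card (P : Subgroup G) = O.index := by rw [hidx, P.card_eq_multiplicity]
  haveI : O.Normal := inferInstance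
  let f : ↥(P : Subgroup G) → G ⧸ O := fun a => ((a : G) : G ⧸ O)
  have hf : Function.Injective f := fun a b e => by
    have hm : ((a⁻¹ * b : (P : Subgroup G)) : G) ∈ O := QuotientGroup.eq.1 e
    have h : Nat.Coprime (Nat.card O) (Nat.card (P : Subgroup G)) := by
      rw [P.card_eq_multiplicity]
      exact Nat.Coprime.pow_right _ PCore.coprime_card_pPrimeCore
    have h2 := Nat.eq_one_of_dvd_coprimes h (Subgroup.orderOf_dvd_natCard _ hm)
      (Subgroup.orderOf_coe (a⁻¹ * b) ▸ orderOf_dvd_natCard _)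
    rw [Subgroup.orderOf_coe, orderOf_eq_one_iff] at h2
    exact inv_mul_eq_one.1 h2
  haveI := Fintype.ofFinite (G ⧸ O)
  haveI := Fintype.ofFinite (P : Subgroup G)
  have hs : Function.Surjective f := ((Nat.bijective_iff_injective_and_card f).2
    ⟨hf, by rw [hcard, Subgroup.index]⟩).2
  obtain ⟨x, hxV, hx1⟩ := S.exists_ne_one
  haveI : Nontrivial W := Finite.one_lt_card_iff_nontrivial.1 (by rw [S.cardW]; norm_num)
  obtain ⟨⟨w, hw⟩, hw1⟩ := exists_ne (1 : W)
  have hw1' : w ≠ 1 := fun e => hw1 (Subtype.ext e)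
  -- a second nontrivial element of `W`
  obtain ⟨w', hw', hw'1, hne⟩ : ∃ w' ∈ W, w' ≠ 1 ∧ w' ≠ w := by
    by_contra hh
    push Not at hh
    haveI := Fintype.ofFinite W
    have hle : Fintype.card W ≤ ({1, ⟨w, hw⟩} : Finset W).card := by
      rw [← Finset.card_univ]
      refine Finset.card_le_card fun q _ => ?_
      by_cases hq : (q : G) = 1
      · exact Finset.mem_insert.2 (Or.inl (Subtype.ext hq))
      · exact Finset.mem_insert.2 (Or.inr (Finset.mem_singleton.2 (Subtype.ext (hh q q.2 hq))))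
    have h2 := Finset.card_insert_le (1 : W) {⟨w, hw⟩}
    rw [Finset.card_singleton] at h2
    rw [← Nat.card_eq_fintype_card, S.cardW] at hle
    omega
  obtain ⟨n, -, -, hn⟩ := S.transW x hxV hx1 w hw hw1' w' hw' hw'1
  obtain ⟨p, hp⟩ := hs (n : G ⧸ O)
  refine hne (congrArg Subtype.val (hf (a₁ := (⟨w', S.leW hw'⟩ : (P : Subgroup G)))
    (a₂ := (⟨w, S.leW hw⟩ : (P : Subgroup G))) ?_))
  show (w' : G ⧸ O) = (w : G ⧸ O)
  rw [← hn, QuotientGroup.mk_mul, QuotientGroup.mk_mul, QuotientGroup.mk_inv, ← hp,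
    ← QuotientGroup.mk_inv, ← QuotientGroup.mk_mul, ← QuotientGroup.mk_mul]
  rw [S.comm _ p.2 w (S.leW hw), mul_inv_cancel_right]

/-- The principal block has 16 characters and rank 9. -/
theorem principal_invariants (hM : IsPModular 2 M) (P : Sylow 2 G)
    (hcard : Nat.card (P : Subgroup G) = 16) (hsq : ∀ v : (P : Subgroup G), v * v = 1)
    (he : (Subgroup.centralizer ((P : Subgroup G) : Set G)).relIndex
      (Subgroup.normalizer ((P : Subgroup G) : Set G)) = 9) :
    Nat.card (principalBlock M G) = 16 ∧ blockRank 2 (principalBlock M G) = 9 := by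
  obtain ⟨V, W, S, S'⟩ := exists_sides P hcard hsq he
  obtain ⟨x, hxV, hx1⟩ := S.exists_ne_one
  obtain ⟨z, hzW, hz1⟩ := S'.exists_ne_one
  have hxP := S.leV hxV
  have hzP := S.leW hzW
  have hyP : x * z ∈ (P : Subgroup G) := (P : Subgroup G).mul_mem hxP hzP
  have hd : ∀ χ : IrrCharacter G, ∃ k : ℤ, χ.1 (x * z) = k := S.exists_int hyP
  choose d hd using hd
  set Bf := Finset.univ.filter fun χ : IrrCharacter G => χ ∈ principalBlock M G
  have hd16 : ∑ χ ∈ Bf, d χ * d χ = 16 := by
    have h := S.sum_sq hM hxV hx1 hzW hz1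
    rw [Finset.sum_congr rfl (g := fun χ => ((d χ * d χ : ℤ) : ℂ)) fun χ _ => by
      rw [hd χ, map_intCast, Int.cast_mul], ← Int.cast_sum] at h
    exact_mod_cast h
  have hS : ∀ v ∈ V, v ≠ 1 → ∀ w ∈ W, w ≠ 1 → ∀ g, IsPPart 2 g (v * w) →
      ∀ χ ∈ principalBlock M G, χ.1 g = (d χ : ℂ) := fun v hv hv1 w hw hw1 g hg χ hχ => by
    rw [S.apply_mixed hM hxV hx1 hzW hz1 hv hv1 hw hw1 hg hχ, hd χ]
  have hS' : ∀ v ∈ W, v ≠ 1 → ∀ w ∈ V, w ≠ 1 → ∀ g, IsPPart 2 g (v * w) →
      ∀ χ ∈ principalBlock M G, χ.1 g = (d χ : ℂ) := fun v hv hv1 w hw hw1 g hg χ hχ =>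
    hS w hw hw1 v hv hv1 g (by rwa [S.comm w (S.leV hw) v (S.leW hv)]) χ hχ
  obtain ⟨b, hbd, hb, hb4, hbz, hx3⟩ := exists_local S hM hxV hx1 d hS hd16
  obtain ⟨c, hcd, hc, hc4, hcz, hz3⟩ := exists_local S' hM hzW hz1 d hS' hd16
  have hbc : ∀ i l, ∑ χ ∈ Bf, b i χ * c l χ = 1 := by
    intro i l
    have h := hcz l (fun χ => 4 * (b i χ : ℂ) - d χ) fun g hg => by
      have h1 := hbz i (fun χ => χ.1 g) fun g' hg' =>
        Blocks.block_orthogonality hM.2.2 hg hg' (fun e => S.not_isConj hxV hzP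
          (fun hm => hz1 ((Subgroup.disjoint_def.1 S.disj) hm hzW)) e.symm)
          (Blocks.isPBlock_principalBlock hM.2.2 (G := G))
      rw [← map_zero (starRingEnd ℂ), ← h1, map_sum]
      refine Finset.sum_congr rfl fun χ _ => ?_
      simp only [map_mul, map_sub, map_ofNat, map_intCast]
      ring
    have h' : ∑ χ ∈ Bf, (4 * b i χ - d χ) * (4 * c l χ - d χ) = 0 := by exact_mod_cast h
    rw [Finset.sum_congr rfl (g := fun χ => 16 * (b i χ * c l χ) -
      4 * (b i χ * d χ) - 4 * (c l χ * d χ) + d χ * d χ) fun χ _ => by ring] at h'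
    simp only [Finset.sum_add_distrib, Finset.sum_sub_distrib, ← Finset.mul_sum, hd16] at h'
    rw [hb4 i, hc4 l] at h'
    linarith
  have h7 := card_eq_rank_add_seven S S' hM hxV hx1 hzW hz1 hx3 hz3
  have h2 := two_le_rank S hM
  have hmem : ∀ χ : Bf, χ.1 ∈ principalBlock M G := fun χ => (Finset.mem_filter.1 χ.2).2
  have hcardBf : Fintype.card Bf = Nat.card (principalBlock M G) := by
    rw [Fintype.card_coe, Nat.card_eq_fintype_card, Fintype.card_subtype]
  have h16 : Fintype.card Bf = 16 :=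
    card_eq_sixteen (ι := Bf) (b := fun i χ => b i χ.1) (c := fun i χ => c i χ.1)
      (d := fun χ => d χ.1) (by omega)
      (fun χ e => S.apply_ne_zero hM hyP (hmem χ) (by rw [hd χ.1, e, Int.cast_zero]))
      (fun χ => hbd χ.1 (hmem χ)) (fun χ => hcd χ.1 (hmem χ))
      (fun i l => (Finset.sum_coe_sort Bf fun χ => b i χ * b l χ).trans (hb i l))
      (fun i l => (Finset.sum_coe_sort Bf fun χ => c i χ * c l χ).trans (hc i l))
      (fun i l => (Finset.sum_coe_sort Bf fun χ => b i χ * c l χ).trans (hbc i l))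
  omega

end Cfsg.Agent.Blocks.NineInertial
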