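import Cfsg.Agent.Lib.Blocks.NineInertial.Mixed
import Cfsg.Agent.Lib.Blocks.NineInertial.BlockKernel
import Cfsg.Agent.Lib.Blocks.NineInertial.CentralizerKernel
import Cfsg.Agent.Lib.ZStar.KleinBlock

/-!
# The principal block on the section of an unmixed involution

For `x ∈ V` the centralizer of `x` has a normal subgroup of index 4 with a Klein four Sylow
2-subgroup and one class of involutions; its four characters give four integer vectors of norm 4
whose sum is the column of a mixed involution.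
-/

set_option autoImplicit false
set_option linter.style.haveILetI false
set_option linter.unusedSectionVars false

namespace Cfsg.Agent.Blocks.NineInertial

open Cfsg Cfsg.Agent
open scoped ComplexConjugate Classical

universe u

section Klein

variable {H : Type u} [Group H] [Fintype H] {M : Ideal AlgInt} [Fact (Nat.Prime 2)] [M.IsMaximal]

/-- The principal block is constant on the singular elements. -/
theorem apply_singular {t : H} (ht : ZStar.InvData t) (hM : IsPModular 2 M) {ψ : IrrCharacter H}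
    (hψ : ψ ∈ principalBlock M H) {g : H} (hg : ¬ IsPRegular 2 g) : ψ.1 g = ψ.1 t := by
  obtain ⟨s, hts, hs⟩ := ZStar.mem_twoSection.1 (ht.mem_twoSection_iff.2 (not_not.1 hg))
  obtain ⟨c, hc⟩ := isConj_iff.1 hts.symm
  have hg' := Blocks.IsPPart.conj hs c
  rw [hc] at hg'
  set C := Subgroup.centralizer ({t} : Set H)
  obtain ⟨r, hr, hreg⟩ := Blocks.exists_regular_factor hg'
  rw [show ψ.1 g = ψ.1 (c * g * c⁻¹) from (Blocks.irr_classFun ψ g c).symm, ← hr]
  refine Blocks.principal_apply_mul_core hM.2.2 ht.two_pow ?_ hψ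
  obtain ⟨N, hN, -⟩ := ht.compl
  have hle : N ≤ C := fun v hv =>
    Subgroup.mem_centralizer_singleton_iff.mpr ((hN v).mp hv).1.symm.eq
  haveI : (N.subgroupOf C).Normal := ⟨fun n hn b => by
    rw [Subgroup.mem_subgroupOf, hN] at hn ⊢
    have hb : Commute t (b : H) := (Subgroup.mem_centralizer_singleton_iff.mp b.2).symm
    simp only [Subgroup.coe_mul, Subgroup.coe_inv]
    refine ⟨(hb.mul_right hn.1).mul_right hb.inv_right, ?_⟩
    rw [← MulAut.conj_apply, MulEquiv.orderOf_eq]
    exact hn.2⟩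
  have hcop : (Nat.card (N.subgroupOf C)).Coprime 2 := by
    rw [Nat.card_congr (Subgroup.subgroupOfEquivOfLe hle).toEquiv, Nat.coprime_two_right]
    by_contra h
    obtain ⟨z, hz⟩ := exists_prime_orderOf_dvd_card' (G := N) 2
      (even_iff_two_dvd.mp (Nat.not_odd_iff_even.mp h))
    have := ((hN z).mp z.2).2
    rw [Subgroup.orderOf_coe, hz] at this
    exact absurd this (by decide)
  refine Subgroup.mem_map_of_mem _ ((le_sSup ⟨‹(N.subgroupOf C).Normal›, hcop⟩ :
    N.subgroupOf C ≤ pPrimeCore 2 C) ?_)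
  rw [Subgroup.mem_subgroupOf, hN]
  refine ⟨(Subgroup.mem_centralizer_singleton_iff.mp r.2).symm, ?_⟩
  rw [Subgroup.orderOf_coe, ← ZStar.not_two_dvd_iff_odd]
  exact hreg

/-- Four characters with signs, and their inner products over the regular elements. -/
theorem exists_four {t : H} (ht : ZStar.InvData t) (hM : IsPModular 2 M) :
    ∃ (ψ : Fin 4 → IrrCharacter H) (w : Fin 4 → ℤ),
      (∀ F : IrrCharacter H → ℂ,
        ∑ θ ∈ Finset.univ.filter (· ∈ principalBlock M H), F θ = ∑ i, F (ψ i)) ∧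
      (∀ i, w i * w i = 1) ∧
      (∀ i g, ¬ IsPRegular 2 g → (ψ i).1 g = (w i : ℂ)) ∧
      (∀ g, IsPRegular 2 g → ∑ i, (w i : ℂ) * (ψ i).1 g = 0) ∧
      (4 * ((Finset.univ.filter fun g : H => ¬ IsPRegular 2 g).card : ℂ) = Nat.card H) ∧
      ∀ i j, ∑ g ∈ Finset.univ.filter (fun g : H => IsPRegular 2 g),
          (ψ i).1 g * conj ((ψ j).1 g) =
        (Nat.card H : ℂ) * ((if i = j then 1 else 0) - (w i : ℂ) * w j / 4) := by
  obtain ⟨w, hwt, hwB, hwreg, hw4, hw1⟩ := ht.exists_weights ZStar.secondPrincipal hM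
  set S := Finset.univ.filter fun θ : IrrCharacter H => θ ∈ principalBlock M H
  have hsq : ∀ θ ∈ S, w θ * w θ = 1 := by
    intro θ hθ
    have h0 := (hwB θ).1 (Finset.mem_filter.1 hθ).2
    by_cases he : θ = Char.trivialChar H
    · rw [he, hw1]; rfl
    have h1 := Finset.add_sum_erase Finset.univ (fun θ => w θ * w θ) (Finset.mem_univ (Char.trivialChar H))
    have h2 := Finset.single_le_sum (f := fun θ => w θ * w θ) (fun _ _ => mul_self_nonneg _)
      (Finset.mem_erase.2 ⟨he, Finset.mem_univ θ⟩)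
    rw [hw1, hw4] at h1
    have h3 : -1 ≤ w θ ∧ w θ ≤ 1 := by constructor <;> nlinarith
    obtain ⟨h3, h4⟩ := h3
    generalize w θ = z at h0 h3 h4 ⊢
    interval_cases z <;> simp_all
  have hcard : S.card = 4 := by
    have h : ∑ θ ∈ S, w θ * w θ = 4 := by
      rw [← hw4]
      refine Finset.sum_subset (Finset.subset_univ _) fun θ _ hθ => ?_
      have : w θ = 0 := by
        by_contra h
        exact hθ (Finset.mem_filter.2 ⟨Finset.mem_univ _, (hwB θ).2 h⟩)
      rw [this, zero_mul]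
    rw [Finset.sum_congr rfl hsq, Finset.sum_const, nsmul_eq_mul, mul_one] at h
    exact_mod_cast h
  let e : Fin 4 ≃ S := (Finset.equivFinOfCardEq hcard).symm
  set ψ : Fin 4 → IrrCharacter H := fun i => (e i : IrrCharacter H)
  have hsum : ∀ F : IrrCharacter H → ℂ, ∑ θ ∈ S, F θ = ∑ i, F (ψ i) := fun F => by
    rw [← Finset.sum_coe_sort, ← e.sum_comp]
  have hψB : ∀ i, ψ i ∈ principalBlock M H := fun i => (Finset.mem_filter.1 (e i).2).2
  have hsing : ∀ i g, ¬ IsPRegular 2 g → (ψ i).1 g = (w (ψ i) : ℂ) := fun i g hg => by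
    rw [apply_singular ht hM (hψB i) hg, hwt _ (hψB i)]
  have hfour : 4 * ((Finset.univ.filter fun g : H => ¬ IsPRegular 2 g).card : ℂ) = Nat.card H := by
    rw [← ht.four_mul_card]
    congr 3
    ext g
    simp [ht.mem_twoSection_iff, IsPRegular, Nat.dvd_iff_mod_eq_zero]
  refine ⟨ψ, fun i => w (ψ i), hsum, fun i => hsq _ (e i).2, hsing, fun g hg => ?_, hfour,
    fun i j => ?_⟩
  · rw [← hsum fun θ => (w θ : ℂ) * θ.1 g]
    rw [← hwreg g (ZStar.not_two_dvd_iff_odd.1 hg)]
    refine Finset.sum_subset (Finset.subset_univ _) fun θ _ hθ => ?_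
    have : w θ = 0 := by
      by_contra h
      exact hθ (Finset.mem_filter.2 ⟨Finset.mem_univ _, (hwB θ).2 h⟩)
    rw [this, Int.cast_zero, zero_mul]
  · have hall : ∑ g : H, (ψ i).1 g * conj ((ψ j).1 g) = (Nat.card H : ℂ) * if i = j then 1 else 0 := by
      have h : classInner (ψ i).1 (ψ j).1 = if i = j then 1 else 0 := by
        split_ifs with hij
        · rw [hij]; exact Char.classInner_irr_self (ψ j).2
        · exact Char.classInner_irr_of_ne (ψ i).2 (ψ j).2 fun he =>
            hij (e.injective (Subtype.ext (Subtype.ext he)))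
      rw [← h, classInner, ← mul_assoc,
        mul_inv_cancel₀ (Nat.cast_ne_zero.2 Nat.card_pos.ne'), one_mul]
    rw [← Finset.sum_filter_add_sum_filter_not Finset.univ (fun g : H => IsPRegular 2 g),
      Finset.sum_congr (s₁ := Finset.univ.filter fun g : H => ¬ IsPRegular 2 g) rfl
        (g := fun _ => (w (ψ i) : ℂ) * w (ψ j)) (fun g hg => by
          rw [hsing i g (Finset.mem_filter.1 hg).2, hsing j g (Finset.mem_filter.1 hg).2,
            map_intCast]),
      Finset.sum_const, nsmul_eq_mul] at hall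
    rw [← hfour] at hall ⊢
    linear_combination hall

end Klein

/-- Translation by a central involution keeps inner products integral. -/
theorem exists_int_translate {H : Type u} [Group H] [Fintype H] {χ : H → ℂ}
    (hχ : IsCharacter H χ) {z : H} (hz : z ∈ Subgroup.center H) (hz2 : z * z = 1) (K : Subgroup H)
    [Fintype K] (ψ : IrrCharacter K) :
    ∃ a : ℤ, classInner (fun m : K => χ ((m : H) * z)) ψ.1 = a := by
  have hdec := Char.eq_sum_classInner_smul (Char.IsCharacter.isClassFunction hχ)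
  have hn : ∀ η : IrrCharacter H, ∃ n : ℕ, classInner χ η.1 = n := fun η =>
    Char.IsCharacter.exists_nat_classInner hχ (Char.irr_isCharacter η)
  have he : ∀ η : IrrCharacter H, ∃ e : ℤ, BlocksX.centScalar η.1 z = e := fun η => by
    have h := BlocksX.centScalar_mul η hz hz
    rw [hz2, BlocksX.centScalar_one] at h
    rcases mul_self_eq_one_iff.1 h.symm with h1 | h1
    · exact ⟨1, by rw [h1, Int.cast_one]⟩
    · exact ⟨-1, by rw [h1, Int.cast_neg, Int.cast_one]⟩
  choose n hn using hn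
  choose e he using he
  have hg : IsGeneralizedCharacter K (∑ η : IrrCharacter H,
      (((n η : ℤ) * e η : ℤ) : ℂ) • fun m : K => η.1 (m : H)) :=
    Char.IsGeneralizedCharacter.sum _ fun η _ => Char.IsGeneralizedCharacter.intCast_smul
      (Char.IsCharacter.isGeneralized (Char.IsCharacter.restrict (Char.irr_isCharacter η) K)) _
  obtain ⟨a, ha⟩ := Char.IsGeneralizedCharacter.exists_int_classInner hg (Char.irr_isGeneralized ψ)
  refine ⟨a, ?_⟩
  rw [← ha]
  congr 1
  funext m
  conv_lhs => rw [hdec]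
  simp only [Finset.sum_apply, Pi.smul_apply, smul_eq_mul]
  refine Finset.sum_congr rfl fun η _ => ?_
  rw [BlocksX.apply_mul_central η hz, he, hn]
  push_cast; ring_nf

variable {G : Type u} [Group G] [Fintype G] {P : Sylow 2 G} {V W : Subgroup G}
  {M : Ideal AlgInt} [Fact (Nat.Prime 2)] [M.IsMaximal]

/-- An element of `V` is not conjugate to one of `P` outside `V`. -/
theorem Side.not_isConj (S : Side P V W) {a b : G} (ha : a ∈ V) (hb : b ∈ (P : Subgroup G))
    (hbV : b ∉ V) : ¬ IsConj a b := by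
  intro h
  obtain ⟨c, hc⟩ := isConj_iff.1 h
  have hcent : ∀ z ∈ (P : Subgroup G), z ∈ Subgroup.centralizer ((P : Subgroup G) : Set G) :=
    fun z hz => Subgroup.mem_centralizer_iff.2 fun y hy => S.comm y hy z hz
  obtain ⟨n, hn, e⟩ := Sylow.conj_eq_normalizer_conj_of_mem_centralizer P a c⁻¹
    (hcent a (S.leV ha)) (by rw [inv_inv, hc]; exact hcent b hb)
  rw [inv_inv, hc] at e
  have := S.normV n⁻¹ (inv_mem hn) a ha
  rw [inv_inv, ← e] at this
  exact hbV this

theorem Side.mixed_notMem (S : Side P V W) {v : G} (hv : v ∈ V) {w : G} (hw : w ∈ W)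
    (hw1 : w ≠ 1) : v * w ∉ V := fun h => by
  have := V.mul_mem (V.inv_mem hv) h
  rw [inv_mul_cancel_left] at this
  exact hw1 ((Subgroup.disjoint_def.1 S.disj) this hw)

set_option maxHeartbeats 1600000 in
/-- The data on the section of an involution in `V`. -/
theorem exists_local (S : Side P V W) (hM : IsPModular 2 M) {x : G} (hxV : x ∈ V) (hx1 : x ≠ 1)
    (d : IrrCharacter G → ℤ)
    (hd : ∀ v ∈ V, v ≠ 1 → ∀ w ∈ W, w ≠ 1 → ∀ g, IsPPart 2 g (v * w) →
      ∀ χ ∈ principalBlock M G, χ.1 g = (d χ : ℂ))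
    (hd16 : ∑ χ ∈ Finset.univ.filter (· ∈ principalBlock M G), d χ * d χ = 16) :
    ∃ b : Fin 4 → IrrCharacter G → ℤ,
      (∀ χ ∈ principalBlock M G, ∑ i, b i χ = d χ) ∧
      (∀ i l, ∑ χ ∈ Finset.univ.filter (· ∈ principalBlock M G), b i χ * b l χ =
        if i = l then 4 else 0) ∧
      (∀ i, ∑ χ ∈ Finset.univ.filter (· ∈ principalBlock M G), b i χ * d χ = 4) ∧
      (∀ (i : Fin 4) (z : IrrCharacter G → ℂ), (∀ g, IsPPart 2 g x →
          ∑ χ ∈ Finset.univ.filter (· ∈ principalBlock M G), z χ * conj (χ.1 g) = 0) →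
        ∑ χ ∈ Finset.univ.filter (· ∈ principalBlock M G), z χ * (4 * (b i χ : ℂ) - d χ) = 0) ∧
      blockRank 2 (principalBlock M (Subgroup.centralizer ({x} : Set G))) = 3 := by
  have hpM := hM.2.2
  have hxP : x ∈ (P : Subgroup G) := S.leV hxV
  have hxord : ∃ k, orderOf x = 2 ^ k := ⟨1, by rw [pow_one]; exact S.orderOf_eq_two hxP hx1⟩
  set C := Subgroup.centralizer ({x} : Set G) with hC
  have hPC : (P : Subgroup G) ≤ C := S.le_centralizer hxP
  obtain ⟨K, hKn, hKi, hKW, hKodd, hKV, hKN⟩ := exists_kernel P S.comm hxP S.leV S.leW S.disj S.gen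
    (fun v hv => S.sq v (S.leV hv)) (fun n hn e => S.fixV x hxV hx1 n hn e)
    (S.commW x hxV hx1)
  haveI := hKn
  haveI := Fintype.ofFinite C
  haveI := Fintype.ofFinite K
  rw [S.cardV] at hKi
  have hreg : ∀ g : C, IsPRegular 2 g → g ∈ K := fun g hg =>
    hKodd g (ZStar.not_two_dvd_iff_odd.1 hg)
  -- `V` covers `C / K`
  let f : V → C ⧸ K := fun v => ((⟨(v : G), hPC (S.leV v.2)⟩ : C) : C ⧸ K)
  have hf : Function.Injective f := fun v v' e => by
    have h := hKV _ (show (((⟨(v : G), hPC (S.leV v.2)⟩ : C)⁻¹ * ⟨(v' : G), hPC (S.leV v'.2)⟩ : C) :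
      G) ∈ V from V.mul_mem (V.inv_mem v.2) v'.2) (QuotientGroup.eq.1 e)
    exact Subtype.ext (congrArg Subtype.val (inv_mul_eq_one.1 h :) :)
  haveI := Fintype.ofFinite (C ⧸ K)
  haveI := Fintype.ofFinite V
  have hfs : Function.Surjective f := (Nat.bijective_iff_injective_and_card f).2
    ⟨hf, by rw [S.cardV, ← hKi, Subgroup.index]⟩ |>.2
  have hVK : ∀ c : C, ∃ z : C, (z : G) ∈ V ∧ ∃ k ∈ K, c = z * k := fun c => by
    obtain ⟨v, hv⟩ := hfs (c : C ⧸ K)
    exact ⟨⟨v, hPC (S.leV v.2)⟩, v.2, _, QuotientGroup.eq.1 hv, (mul_inv_cancel_left _ _).symm⟩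
  have hcov : ∀ c : C, ∃ z, CentralMod 2 K z ∧ ∃ k ∈ K, c = z * k := fun c => by
    obtain ⟨z, hz, k, hk, e⟩ := hVK c
    obtain ⟨N, hNn, hNo, hNc⟩ := hKN z hz
    refine ⟨z, ⟨N, hNn, Nat.coprime_two_right.2 hNo, fun n hn => hKodd n ?_, hNc⟩, k, hk, e⟩
    exact hNo.of_dvd_nat (Subgroup.orderOf_dvd_natCard _ hn)
  -- a Klein four Sylow 2-subgroup of `K`
  set ι : K →* G := C.subtype.comp K.subtype with hι
  have hιinj : Function.Injective ι := Subtype.val_injective.comp Subtype.val_injective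
  have hQ4 : Nat.card (W.comap ι) = 4 := by
    rw [← S.cardW]
    refine Nat.card_congr (Equiv.ofBijective (fun k => ⟨ι k.1, k.2⟩) ⟨fun a b e => ?_, fun w => ?_⟩)
    · exact Subtype.ext (hιinj (congrArg (fun q : W => (q : G)) e))
    · exact ⟨⟨⟨⟨w, hPC (S.leW w.2)⟩, hKW _ w.2⟩, w.2⟩, rfl⟩
  have hfac : (2 : ℕ) ^ (Nat.card K).factorization 2 = 4 := by
    have h16 := S.two_pow_factorization hxP
    rw [← K.card_mul_index, hKi, Nat.factorization_mul Nat.card_pos.ne' (by norm_num),
      Finsupp.add_apply, show (4 : ℕ).factorization 2 = 2 by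
        rw [show (4 : ℕ) = 2 ^ 2 by norm_num, Nat.prime_two.factorization_pow, Finsupp.single_eq_same],
      pow_add] at h16
    omega
  let Q : Sylow 2 K := Sylow.ofCard (W.comap ι) (by rw [hQ4, hfac])
  have hQmem : ∀ k : K, k ∈ (Q : Subgroup K) ↔ ι k ∈ W := fun k => by
    simp [Q, Subgroup.mem_comap]
  have hQk : IsKleinFour (Q : Subgroup K) := by
    have hc : Nat.card (Q : Subgroup K) = 4 := by simpa [Q] using hQ4
    haveI : Nontrivial (Q : Subgroup K) := Finite.one_lt_card_iff_nontrivial.1 (by rw [hc]; norm_num)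
    refine ⟨hc, (Monoid.exponent_eq_prime_iff Nat.prime_two).2 fun q hq => orderOf_eq_prime ?_ hq⟩
    have hqW : ι (q : K) ∈ W := (hQmem _).1 q.2
    apply Subtype.ext
    apply hιinj
    rw [pow_two, Subgroup.coe_mul, map_mul, S.sq _ (S.leW hqW), Subgroup.coe_one, map_one]
  have hQconj : ∀ s : K, orderOf s = 2 → ∃ q : K, ι q ∈ W ∧ ι q ≠ 1 ∧ IsConj s q := fun s hs => by
    obtain ⟨R, hR⟩ := (IsPGroup.of_card (p := 2) (n := 1) (G := Subgroup.zpowers s)
      (by rw [Nat.card_zpowers, hs, pow_one])).exists_le_sylow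
    obtain ⟨c, hc⟩ := MulAction.exists_smul_eq K R Q
    refine ⟨c * s * c⁻¹, (hQmem _).1 ?_, fun e => ?_, isConj_iff.2 ⟨c, rfl⟩⟩
    · rw [← hc, Sylow.coe_subgroup_smul]
      exact ⟨s, hR (Subgroup.mem_zpowers s), rfl⟩
    · have := hιinj (e.trans (map_one ι).symm)
      rw [conj_eq_one_iff] at this
      rw [this, orderOf_one] at hs
      norm_num at hs
  have hQtrans : ∀ q q' : K, ι q ∈ W → ι q ≠ 1 → ι q' ∈ W → ι q' ≠ 1 → IsConj q q' := by
    intro q q' hq hq1 hq' hq1'
    obtain ⟨n, -, hnx, hnq⟩ := S.transW x hxV hx1 _ hq hq1 _ hq' hq1'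
    obtain ⟨z, hz, k, hk, e⟩ := hVK ⟨n, Subgroup.mem_centralizer_singleton_iff.2 hnx⟩
    refine isConj_iff.2 ⟨⟨k, hk⟩, hιinj ?_⟩
    have hn : n = (z : G) * (k : G) := congrArg Subtype.val e
    rw [map_mul, map_mul, map_inv, ← mul_right_inj (z : G), ← mul_left_inj (z : G)⁻¹]
    have hcz : (z : G) * ι q' * (z : G)⁻¹ = ι q' := by
      rw [S.comm _ (S.leV hz) _ (S.leW hq'), mul_inv_cancel_right]
    rw [hcz, show ι ⟨k, hk⟩ = (k : G) from rfl]
    rw [hn] at hnq
    refine Eq.trans ?_ hnq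
    group
  obtain ⟨t, htQ, ht⟩ := ZStar.exists_invData Q hQk fun s s' hs hs' => by
    obtain ⟨q, hq, hq1, hsq⟩ := hQconj s hs
    obtain ⟨q', hq', hq1', hsq'⟩ := hQconj s' hs'
    exact hsq.trans ((hQtrans q q' hq hq1 hq' hq1').trans hsq'.symm)
  have htW : ι t ∈ W := (hQmem t).1 htQ
  have ht1 : ι t ≠ 1 := fun e => by
    have := ht.ord
    rw [hιinj (e.trans (map_one ι).symm), orderOf_one] at this
    norm_num at this
  obtain ⟨ψ, w, hsum, hw, hsing, hwreg, hfour, hgram⟩ := exists_four ht hM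
  -- the singular elements of `K` give the mixed sections
  have hsingd : ∀ m : K, ¬ IsPRegular 2 m → ∀ χ ∈ principalBlock M G,
      χ.1 (x * ι m) = (d χ : ℂ) := by
    intro m hm χ hχ
    obtain ⟨s, hts, hs⟩ := ZStar.mem_twoSection.1 (ht.mem_twoSection_iff.2 (not_not.1 hm))
    obtain ⟨c, hc⟩ := isConj_iff.1 hts.symm
    have hm' := Blocks.IsPPart.conj hs c
    rw [hc] at hm'
    obtain ⟨r, hr, hcom, -, hro⟩ := hm'
    have hxc : ∀ k : K, Commute x (ι k) := fun k =>
      (Subgroup.mem_centralizer_singleton_iff.1 (k : C).2).symm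
    have e : ι c * (x * ι m) * (ι c)⁻¹ = x * ι t * ι r := by
      rw [mul_assoc x, ← map_mul, hr, map_mul, map_mul, map_inv, ← mul_assoc (ι c), ← (hxc c).eq]
      simp only [mul_assoc]
    rw [← Blocks.irr_classFun χ (x * ι m) (ι c), e]
    refine hd x hxV hx1 _ htW ht1 _ ⟨ι r, rfl,
      (hxc r).mul_left (hcom.map ι), ⟨1, ?_⟩, ?_⟩ χ hχ
    · rw [pow_one]
      exact S.orderOf_eq_two ((P : Subgroup G).mul_mem hxP (S.leW htW)) (S.ne_one hxV hx1 htW)
    · rwa [orderOf_injective ι hιinj]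
  -- the integers
  have hint : ∀ (i : Fin 4) (χ : IrrCharacter G), ∃ a : ℤ,
      classInner (fun m : K => χ.1 (x * ι m)) (ψ i).1 = a := by
    intro i χ
    obtain ⟨a, ha⟩ := exists_int_translate
      (Char.IsCharacter.comp (Char.irr_isCharacter χ) C.subtype)
      (z := (⟨x, Subgroup.mem_centralizer_singleton_iff.2 rfl⟩ : C))
      (Subgroup.mem_center_iff.2 fun c => Subtype.ext (Subgroup.mem_centralizer_singleton_iff.1 c.2))
      (Subtype.ext (S.sq x hxP)) K (ψ i)
    refine ⟨a, ?_⟩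
    rw [← ha]
    congr 1
    funext m
    exact congrArg χ.1 (Subgroup.mem_centralizer_singleton_iff.1 (m : C).2).symm
  choose a ha using hint
  set R := Finset.univ.filter fun m : K => IsPRegular 2 m with hR
  obtain ⟨cf, hcf⟩ : ∃ cf : Fin 4 → K → ℂ,
      ∀ i m, cf i m = 4 * (w i : ℂ) / (Nat.card K : ℂ) * conj ((ψ i).1 m) := ⟨_, fun _ _ => rfl⟩
  have hK0 : (Nat.card K : ℂ) ≠ 0 := Nat.cast_ne_zero.2 Nat.card_pos.ne'
  have hwc : ∀ i, (w i : ℂ) * w i = 1 := fun i => by exact_mod_cast hw i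
  have hh : ∀ i, ∀ χ ∈ principalBlock M G, 4 * ((w i * a i χ : ℤ) : ℂ) - d χ =
      ∑ m ∈ R, cf i m * χ.1 (x * ι m) := by
    intro i χ hχ
    have h := ha i χ
    rw [classInner, ← Finset.sum_filter_add_sum_filter_not Finset.univ
      (fun m : K => IsPRegular 2 m), Finset.sum_congr
      (s₁ := Finset.univ.filter fun m : K => ¬ IsPRegular 2 m) rfl
      (g := fun _ => (d χ : ℂ) * w i) (fun m hm => by
        rw [hsingd m (Finset.mem_filter.1 hm).2 χ hχ, hsing i m (Finset.mem_filter.1 hm).2,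
          map_intCast]), Finset.sum_const, nsmul_eq_mul] at h
    rw [Finset.sum_congr rfl (g := fun m => 4 * (w i : ℂ) / (Nat.card K : ℂ) *
      (χ.1 (x * ι m) * conj ((ψ i).1 m))) (fun m _ => by simp only [hcf]; ring), ← Finset.mul_sum,
      Int.cast_mul, ← h]
    field_simp
    linear_combination ((d χ : ℂ) * (Nat.card K : ℂ)) * hwc i +
      ((d χ : ℂ) * (w i : ℂ) * w i) * hfour
  have hP2 : ∀ (i : Fin 4) (z : IrrCharacter G → ℂ), (∀ g, IsPPart 2 g x →
      ∑ χ ∈ Finset.univ.filter (· ∈ principalBlock M G), z χ * conj (χ.1 g) = 0) →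
      ∑ χ ∈ Finset.univ.filter (· ∈ principalBlock M G),
        z χ * (4 * ((w i * a i χ : ℤ) : ℂ) - d χ) = 0 := by
    intro i z hz
    rw [Finset.sum_congr rfl (g := fun χ => ∑ m ∈ R, conj (cf i m) * (z χ * conj (χ.1 (x * ι m))))
      (fun χ hχ => by
        rw [show 4 * ((w i * a i χ : ℤ) : ℂ) - d χ = conj (4 * ((w i * a i χ : ℤ) : ℂ) - d χ) by
          simp [map_sub, map_mul, map_ofNat], hh i χ (Finset.mem_filter.1 hχ).2, map_sum,
          Finset.mul_sum]
        exact Finset.sum_congr rfl fun m _ => by rw [map_mul]; ring), Finset.sum_comm]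
    refine Finset.sum_eq_zero fun m hm => ?_
    rw [← Finset.mul_sum, hz (x * ι m) (Blocks.isPPart_mul
      (Subgroup.mem_centralizer_singleton_iff.1 (m : C).2).symm hxord
      (show IsPRegular 2 (ι m) by rw [IsPRegular, orderOf_injective ι hιinj]; exact (Finset.mem_filter.1 hm).2)), mul_zero]
  -- the Gram matrix
  have hT : ∀ m ∈ R, ∀ m' ∈ R, ∑ χ ∈ Finset.univ.filter (· ∈ principalBlock M G),
      χ.1 (x * ι m) * conj (χ.1 (x * ι m')) = 4 * ∑ j, (ψ j).1 m * conj ((ψ j).1 m') := by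
    intro m hm m' hm'
    have hco : ∀ k : K, IsPRegular 2 k → IsPRegular 2 (k : C) := fun k hk => by
      rwa [IsPRegular, Subgroup.orderOf_coe]
    refine (Blocks.second_main_orth hpM hxord (Blocks.isPBlock_principalBlock hpM)
      (hco m (Finset.mem_filter.1 hm).2) (hco m' (Finset.mem_filter.1 hm').2)).trans ?_
    rw [Blocks.inducingSet_principalBlock hpM hxord, sum_block_eq hM hreg hcov m m', hKi, hsum]
    norm_num
  have hG : ∀ i l, ∑ χ ∈ Finset.univ.filter (· ∈ principalBlock M G),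
      (4 * ((w i * a i χ : ℤ) : ℂ) - d χ) * (4 * ((w l * a l χ : ℤ) : ℂ) - d χ) =
        64 * (if i = l then 1 else 0) - 16 := by
    intro i l
    have hF : ∀ i j, ∑ m ∈ R, cf i m * (ψ j).1 m =
        4 * (w i : ℂ) * (if j = i then 1 else 0) - w j := fun i j => by
      rw [Finset.sum_congr rfl (g := fun m => 4 * (w i : ℂ) / (Nat.card K : ℂ) *
        ((ψ j).1 m * conj ((ψ i).1 m))) (fun m _ => by simp only [hcf]; ring), ← Finset.mul_sum,
        hgram]
      field_simp
      linear_combination (-(w j : ℂ)) * hwc i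
    rw [Finset.sum_congr rfl (g := fun χ => ∑ m ∈ R, ∑ m' ∈ R,
      cf i m * conj (cf l m') * (χ.1 (x * ι m) * conj (χ.1 (x * ι m')))) (fun χ hχ => by
        rw [show 4 * ((w l * a l χ : ℤ) : ℂ) - d χ = conj (4 * ((w l * a l χ : ℤ) : ℂ) - d χ) by
          simp [map_sub, map_mul, map_ofNat], hh i χ (Finset.mem_filter.1 hχ).2,
          hh l χ (Finset.mem_filter.1 hχ).2, map_sum, Finset.sum_mul]
        refine Finset.sum_congr rfl fun m _ => ?_
        rw [Finset.mul_sum]
        exact Finset.sum_congr rfl fun m' _ => by rw [map_mul]; ring), Finset.sum_comm,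
      Finset.sum_congr rfl fun m hm => Finset.sum_comm,
      Finset.sum_congr rfl (g := fun m => ∑ m' ∈ R, ∑ j, 4 *
        ((cf i m * (ψ j).1 m) * conj (cf l m' * (ψ j).1 m'))) fun m hm =>
        Finset.sum_congr rfl fun m' hm' => by
          rw [← Finset.mul_sum, hT m hm m' hm', Finset.mul_sum, Finset.mul_sum]
          exact Finset.sum_congr rfl fun j _ => by rw [map_mul]; ring]
    rw [Finset.sum_congr rfl fun m _ => Finset.sum_comm, Finset.sum_comm]
    rw [Finset.sum_congr rfl (g := fun j => 4 * ((4 * (w i : ℂ) * (if j = i then 1 else 0) - w j) *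
      (4 * (w l : ℂ) * (if j = l then 1 else 0) - w j))) fun j _ => by
        rw [Finset.sum_congr rfl fun m _ => by rw [← Finset.mul_sum, ← Finset.mul_sum, ← map_sum,
          hF l j], ← Finset.mul_sum, ← Finset.sum_mul, hF i j]
        simp [map_sub, map_mul, map_ofNat, apply_ite]]
    rw [Fin.sum_univ_four]
    have hw2 : ∀ i, (w i : ℂ) ^ 2 = 1 := fun i => by rw [pow_two]; exact hwc i
    fin_cases i <;> fin_cases l <;>
      simp +decide <;> ring_nf <;> simp [hw2] <;> norm_num
  -- orthogonal to the mixed column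
  have hz : ∀ g, IsPPart 2 g x → ∑ χ ∈ Finset.univ.filter (· ∈ principalBlock M G),
      (d χ : ℂ) * conj (χ.1 g) = 0 := by
    intro g hg
    have hyo := S.orderOf_eq_two ((P : Subgroup G).mul_mem hxP (S.leW htW))
      (S.ne_one hxV hx1 htW)
    have hy : IsPPart 2 (x * ι t) (x * ι t) := ⟨1, mul_one _, Commute.one_right _,
      ⟨1, by rw [pow_one, hyo]⟩, by simp⟩
    rw [← Blocks.block_orthogonality hpM hy hg (fun e => S.not_isConj hxV
      ((P : Subgroup G).mul_mem hxP (S.leW htW)) (S.mixed_notMem hxV htW ht1) e.symm)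
      (Blocks.isPBlock_principalBlock hpM (G := G))]
    exact Finset.sum_congr rfl fun χ hχ => by
      rw [hd x hxV hx1 _ htW ht1 _ hy χ (Finset.mem_filter.1 hχ).2]
  have hbd4 : ∀ i, ∑ χ ∈ Finset.univ.filter (· ∈ principalBlock M G), w i * a i χ * d χ = 4 := by
    intro i
    have h := hP2 i (fun χ => (d χ : ℂ)) hz
    have h' : ∑ χ ∈ Finset.univ.filter (· ∈ principalBlock M G),
        d χ * (4 * (w i * a i χ) - d χ) = 0 := by exact_mod_cast h
    simp only [mul_sub, Finset.sum_sub_distrib, hd16] at h'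
    rw [Finset.sum_congr rfl (g := fun χ => 4 * (w i * a i χ * d χ)) fun χ _ => by ring,
      ← Finset.mul_sum] at h'
    linarith
  refine ⟨fun i χ => w i * a i χ, fun χ hχ => ?_, fun i l => ?_, hbd4, hP2, ?_⟩
  · have h : ∑ i, (4 * ((w i * a i χ : ℤ) : ℂ) - d χ) = 0 := by
      rw [Finset.sum_congr rfl fun i _ => hh i χ hχ, Finset.sum_comm]
      refine Finset.sum_eq_zero fun m hm => ?_
      rw [← Finset.sum_mul, Finset.sum_congr rfl (g := fun i => 4 / (Nat.card K : ℂ) *
        conj ((w i : ℂ) * (ψ i).1 m)) (fun i _ => by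
          simp only [hcf, map_mul, map_intCast]; ring), ← Finset.mul_sum, ← map_sum,
        hwreg m (Finset.mem_filter.1 hm).2, map_zero, mul_zero, zero_mul]
    have h' : ∑ i, (4 * (w i * a i χ) - d χ) = 0 := by exact_mod_cast h
    rw [Finset.sum_sub_distrib, Finset.sum_const, Finset.card_univ, Fintype.card_fin,
      ← Finset.mul_sum, nsmul_eq_mul] at h'
    push_cast at h'
    linarith
  · have h := hG i l
    have h' : ∑ χ ∈ Finset.univ.filter (· ∈ principalBlock M G),
        (4 * (w i * a i χ) - d χ) * (4 * (w l * a l χ) - d χ) =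
          64 * (if i = l then 1 else 0) - 16 := by
      split_ifs at h ⊢ <;> exact_mod_cast h
    rw [Finset.sum_congr rfl (g := fun χ => 16 * (w i * a i χ * (w l * a l χ)) -
      4 * (w i * a i χ * d χ) - 4 * (w l * a l χ * d χ) + d χ * d χ) fun χ _ => by ring] at h'
    simp only [Finset.sum_add_distrib, Finset.sum_sub_distrib, ← Finset.mul_sum, hbd4, hd16] at h'
    show ∑ χ ∈ _, w i * a i χ * (w l * a l χ) = _
    split_ifs at h' ⊢ <;> linarith
  · -- the local rank
    have h := S4511.sum_regular_block (G := C) hpM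
      (Blocks.isPBlock_principalBlock hpM (M := M) (G := C))
    have hmap : (Finset.univ.filter fun c : C => IsPRegular 2 c) =
        R.map ⟨Subtype.val, Subtype.val_injective⟩ := by
      ext c
      simp only [hR, Finset.mem_filter, Finset.mem_univ, true_and, Finset.mem_map,
        Function.Embedding.coeFn_mk]
      constructor
      · intro hc
        exact ⟨⟨c, hreg c hc⟩, by rwa [IsPRegular, Subgroup.orderOf_mk], rfl⟩
      · rintro ⟨k, hk, rfl⟩
        rwa [IsPRegular, Subgroup.orderOf_coe]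
    rw [hmap, Finset.sum_map, Finset.sum_congr rfl (g := fun k => 4 * ∑ j, (ψ j).1 k *
      conj ((ψ j).1 k)) (fun k _ => by
        rw [Function.Embedding.coeFn_mk, sum_block_eq hM hreg hcov k k, hKi, hsum]; norm_num),
      ← Finset.mul_sum, Finset.sum_comm, Fin.sum_univ_four, hgram, hgram, hgram, hgram,
      hwc, hwc, hwc, hwc] at h
    have hc : (Nat.card C : ℂ) = (Nat.card K : ℂ) * 4 := by
      rw [← K.card_mul_index, hKi]; push_cast; rfl
    rw [hc] at h
    simp only [if_true] at h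
    have h3 : (blockRank 2 (principalBlock M C) : ℂ) = 3 := by
      apply mul_left_cancel₀ (mul_ne_zero hK0 (by norm_num : (4 : ℂ) ≠ 0))
      rw [← h]; ring
    exact_mod_cast h3

end Cfsg.Agent.Blocks.NineInertial
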