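import Cfsg.Agent.Lib.Blocks.NineInertial.Sides
import Cfsg.Agent.S4606
import Cfsg.Agent.S4646
import Cfsg.Agent.Lib.Transfer.Burnside
import Cfsg.Agent.Lib.Char.RationalBound

/-!
# The mixed involutions of the Sylow 2-subgroup with inertial index 9

Their centralizers have normal 2-complements, so the principal block is constant on their
sections, with integer nonzero values of square sum 16 and local rank 1.
-/

set_option autoImplicit false
set_option linter.style.haveILetI false
set_option linter.unusedSectionVars false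

namespace Cfsg.Agent.Blocks.NineInertial

open Cfsg Cfsg.Agent
open scoped ComplexConjugate Classical

universe u

variable {G : Type u} [Group G] [Fintype G] {P : Sylow 2 G} {V W : Subgroup G}
  {M : Ideal AlgInt} [Fact (Nat.Prime 2)] [M.IsMaximal]

theorem Side.ne_one (S : Side P V W) {v : G} (hv : v ∈ V) (hv1 : v ≠ 1) {w : G} (hw : w ∈ W) :
    v * w ≠ 1 := by
  intro e
  refine hv1 ((Subgroup.disjoint_def.1 S.disj) hv ?_)
  rw [eq_inv_of_mul_eq_one_left e]
  exact W.inv_mem hw

theorem Side.orderOf_eq_two (S : Side P V W) {a : G} (ha : a ∈ (P : Subgroup G)) (ha1 : a ≠ 1) :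
    orderOf a = 2 := orderOf_eq_prime (by rw [pow_two]; exact S.sq a ha) ha1

theorem Side.le_centralizer (S : Side P V W) {a : G} (ha : a ∈ (P : Subgroup G)) :
    (P : Subgroup G) ≤ Subgroup.centralizer ({a} : Set G) := fun x hx =>
  Subgroup.mem_centralizer_singleton_iff.2 (S.comm x hx a ha)

theorem Side.two_pow_factorization (S : Side P V W) {a : G} (ha : a ∈ (P : Subgroup G)) :
    (2 : ℕ) ^ (Nat.card (Subgroup.centralizer ({a} : Set G))).factorization 2 = 16 := by
  rw [← (P.subtype (S.le_centralizer ha)).card_eq_multiplicity, ← S.card16]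
  exact Nat.card_congr (Subgroup.subgroupOfEquivOfLe (S.le_centralizer ha)).toEquiv

/-- A mixed involution has a centralizer with a normal 2-complement. -/
theorem Side.hasNormalPComplement (S : Side P V W) {v : G} (hv : v ∈ V) (hv1 : v ≠ 1) {w : G}
    (hw : w ∈ W) (hw1 : w ≠ 1) :
    HasNormalPComplement 2 (Subgroup.centralizer ({v * w} : Set G)) := by
  set C := Subgroup.centralizer ({v * w} : Set G) with hC
  have hPC : (P : Subgroup G) ≤ C :=
    S.le_centralizer ((P : Subgroup G).mul_mem (S.leV hv) (S.leW hw))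
  refine Transfer.hasNormalPComplement_of_normalizer_le_centralizer (P.subtype hPC) fun g hg => ?_
  have hgN : (g : G) ∈ Subgroup.normalizer ((P : Subgroup G) : Set G) := by
    refine Subgroup.mem_normalizer_iff.2 fun x => ⟨fun hx => ?_, fun hx => ?_⟩
    · exact (Subgroup.mem_normalizer_iff.1 hg ⟨x, hPC hx⟩).1 hx
    · have hxC : x ∈ C := by
        have := C.mul_mem (C.mul_mem (C.inv_mem g.2) (hPC hx)) g.2
        simpa [mul_assoc] using this
      exact (Subgroup.mem_normalizer_iff.1 hg ⟨x, hxC⟩).2 hx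
  have hgC := S.mixedFree v hv hv1 w hw hw1 g hgN (Subgroup.mem_centralizer_singleton_iff.1 g.2)
  exact Subgroup.mem_centralizer_iff.2 fun x hx =>
    Subtype.ext (Subgroup.mem_centralizer_iff.1 hgC x hx)

/-- The principal block takes one value on all sections of mixed involutions. -/
theorem Side.apply_mixed (S : Side P V W) (hM : IsPModular 2 M) {v₀ : G} (hv₀ : v₀ ∈ V)
    (hv₀1 : v₀ ≠ 1) {w₀ : G} (hw₀ : w₀ ∈ W) (hw₀1 : w₀ ≠ 1) {v : G} (hv : v ∈ V) (hv1 : v ≠ 1)
    {w : G} (hw : w ∈ W) (hw1 : w ≠ 1) {g : G} (hg : IsPPart 2 g (v * w)) {χ : IrrCharacter G}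
    (hχ : χ ∈ principalBlock M G) : χ.1 g = χ.1 (v₀ * w₀) := by
  obtain ⟨s, hsg, hs⟩ := Blocks.exists_regular_factor hg
  have hy : ∃ k, orderOf (v * w) = 2 ^ k := Blocks.IsPPart.isPElement hg
  have h1 : χ.1 g = χ.1 (v * w) := by
    rw [← hsg]
    exact Blocks.principal_apply_mul_core hM.2.2 hy (Subgroup.mem_map_of_mem _
      ((DefectOne.index_pPrimeCore_of_hasNormalPComplement
        (S.hasNormalPComplement hv hv1 hw hw1)).2 s hs)) hχ
  obtain ⟨c, hc⟩ := isConj_iff.1 (S.mixedConj v hv hv1 w hw hw1 v₀ hv₀ hv₀1 w₀ hw₀ hw₀1)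
  rw [h1, ← hc, Blocks.irr_classFun χ]

theorem Side.exists_int (S : Side P V W) {a : G} (ha : a ∈ (P : Subgroup G))
    (χ : IrrCharacter G) : ∃ z : ℤ, χ.1 a = z :=
  Char.exists_int_of_forall_pow (Char.irr_isCharacter χ) a fun k hk => by
    by_cases ha1 : a = 1
    · simp [ha1]
    have h2 := S.orderOf_eq_two ha ha1
    rw [h2, Nat.coprime_two_right] at hk
    obtain ⟨j, rfl⟩ := hk
    rw [pow_succ, pow_mul, pow_two, S.sq a ha, one_pow, one_mul]

/-- The squared values at a mixed involution sum to 16. -/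
theorem Side.sum_sq (S : Side P V W) (hM : IsPModular 2 M) {v : G} (hv : v ∈ V) (hv1 : v ≠ 1)
    {w : G} (hw : w ∈ W) (hw1 : w ≠ 1) :
    ∑ χ ∈ Finset.univ.filter (· ∈ principalBlock M G), χ.1 (v * w) * conj (χ.1 (v * w)) = 16 := by
  have hy : v * w ∈ (P : Subgroup G) := (P : Subgroup G).mul_mem (S.leV hv) (S.leW hw)
  haveI := Fintype.ofFinite (Subgroup.centralizer ({v * w} : Set G))
  have hx : ∃ k, orderOf (v * w) = 2 ^ k :=
    ⟨1, by rw [pow_one]; exact S.orderOf_eq_two hy (S.ne_one hv hv1 hw)⟩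
  have h1 : IsPRegular 2 (1 : Subgroup.centralizer ({v * w} : Set G)) := by simp [IsPRegular]
  have := Blocks.second_main_orth hM.2.2 hx (Blocks.isPBlock_principalBlock hM.2.2 (G := G)) h1 h1
  simp only [OneMemClass.coe_one, mul_one] at this
  rw [this, Blocks.inducingSet_principalBlock hM.2.2 hx]
  obtain ⟨hidx, -⟩ := DefectOne.index_pPrimeCore_of_hasNormalPComplement
    (S.hasNormalPComplement hv hv1 hw hw1)
  rw [Finset.sum_congr (s₂ := Finset.univ.filter
      fun η : IrrCharacter (Subgroup.centralizer ({v * w} : Set G)) =>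
        Char.TrivOn (pPrimeCore 2 (Subgroup.centralizer ({v * w} : Set G))) η.1)
      (Finset.filter_congr fun η _ => by
      rw [Blocks.principalBlock_eq_of_index hM.2.2 ⟨_, hidx⟩]; rfl) fun η _ =>
      show η.1 1 * conj (η.1 1) = ((charDegree η.1 ^ 2 : ℕ) : ℂ) by
        rw [← Char.charDegree_cast, map_natCast]; push_cast; ring,
    ← Nat.cast_sum, Char.sum_trivOn_degree_sq, hidx, S.two_pow_factorization hy]
  norm_num

/-- No member of the principal block vanishes at an element of `P`. -/
theorem Side.apply_ne_zero (S : Side P V W) (hM : IsPModular 2 M) {a : G}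
    (ha : a ∈ (P : Subgroup G)) {χ : IrrCharacter G} (hχ : χ ∈ principalBlock M G) :
    χ.1 a ≠ 0 := by
  intro h0
  have h : MemLocalIdeal M (centralChar (fun _ : G => (1 : ℂ)) a - centralChar χ.1 a) := hχ a
  simp only [centralChar, h0, mul_zero, zero_div, sub_zero, mul_one, div_one] at h
  exact P.not_dvd_index (((Blocks.memLocalIdeal_natCast_iff hM.2.2 _).1 h).trans
    (Subgroup.index_dvd_of_le (S.le_centralizer ha)))

/-- The local rank at a mixed involution is 1. -/
theorem Side.blockRank_mixed (S : Side P V W) (hM : IsPModular 2 M) {v : G} (hv : v ∈ V)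
    (hv1 : v ≠ 1) {w : G} (hw : w ∈ W) (hw1 : w ≠ 1) :
    blockRank 2 (principalBlock M (Subgroup.centralizer ({v * w} : Set G))) = 1 := by
  haveI : CharP (AlgInt ⧸ M) 2 := Blocks.charP_residue hM.2.2
  exact (S4646.result 2 M hM).1
    (BrauerPairs.isNilpotentBlock_principal_iff.2 (S.hasNormalPComplement hv hv1 hw hw1))

end Cfsg.Agent.Blocks.NineInertial
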