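import Cfsg.Agent.Lib.Blocks.NineInertial.Action
import Mathlib.GroupTheory.Sylow

/-!
# The two sides of an elementary abelian Sylow 2-subgroup of order 16 with inertial index 9
-/

set_option autoImplicit false
set_option linter.style.haveILetI false

namespace Cfsg.Agent.Blocks.NineInertial

universe u

variable {G : Type u} [Group G] [Finite G]

/-- What the normaliser does to the decomposition `P = V × W`, seen from `V`. -/
structure Side (P : Sylow 2 G) (V W : Subgroup G) : Prop where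
  card16 : Nat.card (P : Subgroup G) = 16
  comm : ∀ a ∈ (P : Subgroup G), ∀ b ∈ (P : Subgroup G), a * b = b * a
  sq : ∀ a ∈ (P : Subgroup G), a * a = 1
  leV : V ≤ (P : Subgroup G)
  leW : W ≤ (P : Subgroup G)
  disj : Disjoint V W
  gen : ∀ a ∈ (P : Subgroup G), ∃ v ∈ V, ∃ w ∈ W, v * w = a
  cardV : Nat.card V = 4
  cardW : Nat.card W = 4
  normV : ∀ n ∈ Subgroup.normalizer ((P : Subgroup G) : Set G), ∀ v ∈ V, n * v * n⁻¹ ∈ V
  fixV : ∀ x ∈ V, x ≠ 1 → ∀ n ∈ Subgroup.normalizer ((P : Subgroup G) : Set G),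
    n * x = x * n → ∀ v ∈ V, n * v = v * n
  commW : ∀ x ∈ V, x ≠ 1 → ∀ w ∈ W, ∃ n ∈ Subgroup.normalizer ((P : Subgroup G) : Set G),
    n * x = x * n ∧ ∃ w' ∈ W, w = n * w' * n⁻¹ * w'⁻¹
  transW : ∀ x ∈ V, x ≠ 1 → ∀ w ∈ W, w ≠ 1 → ∀ w' ∈ W, w' ≠ 1 →
    ∃ n ∈ Subgroup.normalizer ((P : Subgroup G) : Set G), n * x = x * n ∧ n * w * n⁻¹ = w'
  mixedConj : ∀ v ∈ V, v ≠ 1 → ∀ w ∈ W, w ≠ 1 → ∀ v' ∈ V, v' ≠ 1 → ∀ w' ∈ W, w' ≠ 1 →
    IsConj (v * w) (v' * w')
  mixedFree : ∀ v ∈ V, v ≠ 1 → ∀ w ∈ W, w ≠ 1 →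
    ∀ n ∈ Subgroup.normalizer ((P : Subgroup G) : Set G),
      n * (v * w) = v * w * n → n ∈ Subgroup.centralizer ((P : Subgroup G) : Set G)

theorem exists_sides (P : Sylow 2 G) (hcard : Nat.card (P : Subgroup G) = 16)
    (hsq : ∀ v : (P : Subgroup G), v * v = 1)
    (he : (Subgroup.centralizer ((P : Subgroup G) : Set G)).relIndex
      (Subgroup.normalizer ((P : Subgroup G) : Set G)) = 9) :
    ∃ V W : Subgroup G, Side P V W ∧ Side P W V := by
  set S := (P : Subgroup G) with hS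
  set N := Subgroup.normalizer (S : Set G)
  set ψ : N →* MulAut S := Subgroup.normalizerMonoidHom S
  set E := ψ.range
  have hψ : ∀ (n : N) (v : S), ((ψ n v : S) : G) = (n : G) * v * (n : G)⁻¹ := fun n v => rfl
  have hE : Nat.card E = 9 := by
    rw [← Subgroup.index_ker, Subgroup.normalizerMonoidHom_ker]
    exact he
  have hinj : Function.Injective E.subtype := Subtype.val_injective
  set α : E →* MulAut S := E.subtype
  -- elements of `E` come from the normaliser
  have hlift : ∀ a : E, ∃ n ∈ N, ∀ v : S, ((α a v : S) : G) = n * v * n⁻¹ := fun a => by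
    obtain ⟨n, hn⟩ := a.2
    exact ⟨n, n.2, fun v => by rw [← hψ n v, hn]; rfl⟩
  have hdown : ∀ n ∈ N, ∃ a : E, ∀ v : S, ((α a v : S) : G) = n * v * n⁻¹ :=
    fun n hn => ⟨⟨ψ ⟨n, hn⟩, ⟨n, hn⟩, rfl⟩, fun v => hψ _ v⟩
  obtain ⟨V, W, hV, hW, hVW, hgen, hVi, hWi, hVa, hWa, hfree⟩ :=
    exists_decomp (α := α) hcard hsq hE hinj
  have hSc : ∀ a ∈ S, ∀ b ∈ S, a * b = b * a := fun a ha b hb =>
    congrArg Subtype.val (comm_P hcard hsq hE hinj (⟨a, ha⟩ : S) ⟨b, hb⟩)
  have key : ∀ A B : Subgroup S, Nat.card A = 4 → Nat.card B = 4 → Disjoint A B →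
      (∀ p : S, ∃ v ∈ A, ∃ w ∈ B, v * w = p) →
      (∀ b : E, ∀ v ∈ A, α b v ∈ A) → (∀ b : E, ∀ v ∈ B, α b v ∈ B) →
      (∃ a : E, a ≠ 1 ∧ fixedBy α a = A) →
      (∀ a : E, a ≠ 1 → ∀ v ∈ A, ∀ w ∈ B, α a (v * w) = v * w → v = 1 ∨ w = 1) →
      Side P (A.map S.subtype) (B.map S.subtype) := by
    intro A B hA hB hAB hg hAi hBi ha hfr
    obtain ⟨a, ha1, haA⟩ := ha
    -- `a` moves the nontrivial elements of `B` in one cycle
    have hmove : ∀ w ∈ B, α a w = w → w = 1 := fun w hw e => by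
      have : w ∈ A ⊓ B := ⟨haA ▸ e, hw⟩
      rwa [hAB.eq_bot, Subgroup.mem_bot] at this
    have hcomm : ∀ w ∈ B, ∃ w' ∈ B, α a w' * w'⁻¹ = w := by
      let f : B → B := fun w => ⟨α a w * (w : S)⁻¹, B.mul_mem (hBi a w w.2) (B.inv_mem w.2)⟩
      have hf : Function.Injective f := fun u w e => by
        have e' : α a u * (u : S)⁻¹ = α a w * (w : S)⁻¹ := congrArg Subtype.val e
        have h1 : α a ((w : S)⁻¹ * u) = (w : S)⁻¹ * u := by
          rw [map_mul, map_inv, inv_mul_eq_iff_eq_mul,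
            show α a u = α a w * (w : S)⁻¹ * u by rw [← e', inv_mul_cancel_right], mul_assoc]
        exact Subtype.ext (inv_mul_eq_one.1 (hmove _ (B.mul_mem (B.inv_mem w.2) u.2) h1)).symm
      intro w hw
      obtain ⟨u, hu⟩ := Finite.injective_iff_surjective.1 hf ⟨w, hw⟩
      exact ⟨u, u.2, congrArg Subtype.val hu⟩
    have htrans : ∀ w ∈ B, w ≠ 1 → ∀ w' ∈ B, w' ≠ 1 → ∃ i : ℕ, α (a ^ i) w = w' := by
      intro w hw hw1 w' hw' hw1'
      classical
      letI := Fintype.ofFinite B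
      have ha2 : a ^ 2 * a ^ 2 = a := by
        rw [← pow_add, show 2 + 2 = 3 + 1 from rfl, pow_succ,
          cube_one hcard hsq hE hinj a, one_mul]
      have h1 : α a w ≠ w := fun e => hw1 (hmove w hw e)
      have h2 : α (a ^ 2) w ≠ w := fun e => hw1 (hmove w hw (by
        rw [← ha2, map_mul, MulAut.mul_apply, e, e]))
      have h3 : α a w ≠ α (a ^ 2) w := fun e => h1 ((α a).injective (by
        rw [pow_two, map_mul, MulAut.mul_apply] at e; exact e)).symm
      have hne : ∀ b : E, α b w ≠ 1 := fun b e => hw1 ((α b).injective (e.trans (map_one _).symm))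
      set T : Finset B := {⟨w, hw⟩, ⟨α a w, hBi a w hw⟩, ⟨α (a ^ 2) w, hBi _ w hw⟩}
      have hT : T = Finset.univ.erase 1 := by
        refine Finset.eq_of_subset_of_card_le (fun z hz => Finset.mem_erase.2 ⟨?_, Finset.mem_univ _⟩) ?_
        · simp only [T, Finset.mem_insert, Finset.mem_singleton] at hz
          intro e
          rcases hz with rfl | rfl | rfl
          · exact hw1 (congrArg Subtype.val e)
          · exact hne a (congrArg Subtype.val e)
          · exact hne _ (congrArg Subtype.val e)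
        · rw [Finset.card_erase_of_mem (Finset.mem_univ _), Finset.card_univ,
            ← Nat.card_eq_fintype_card, hB]
          refine le_of_eq (Eq.symm (Finset.card_eq_three.2 ⟨_, _, _, ?_, ?_, ?_, rfl⟩))
          · exact fun e => h1 (congrArg Subtype.val e).symm
          · exact fun e => h2 (congrArg Subtype.val e).symm
          · exact fun e => h3 (congrArg Subtype.val e)
      have hm : (⟨w', hw'⟩ : B) ∈ T := by
        rw [hT]
        exact Finset.mem_erase.2 ⟨fun e => hw1' (congrArg Subtype.val e), Finset.mem_univ _⟩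
      simp only [T, Finset.mem_insert, Finset.mem_singleton, Subtype.mk.injEq] at hm
      rcases hm with e | e | e
      · exact ⟨0, by rw [pow_zero, map_one, e]; rfl⟩
      · exact ⟨1, by rw [pow_one, e]⟩
      · exact ⟨2, e.symm⟩
    have hapow : ∀ (i : ℕ), ∀ v ∈ A, α (a ^ i) v = v := fun i v hv => by
      have hv' : v ∈ fixedBy α a := haA.symm ▸ hv
      have hm : a ∈ (MulAction.stabilizer (MulAut S) v).comap α := hv'
      exact pow_mem hm i
    have hfixA : ∀ b : E, ∀ x ∈ A, x ≠ 1 → α b x = x → ∀ v ∈ A, α b v = v := by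
      intro b x hx hx1 hbx v hv
      by_cases hb : b = 1
      · rw [hb, map_one]; rfl
      -- otherwise `b` fixes no nontrivial element of `B`, so its fixed group is `A`
      have hle : fixedBy α b ≤ A := fun p hp => by
        obtain ⟨v', hv', w', hw', rfl⟩ := hg p
        rcases hfr b hb v' hv' w' hw' hp with e | e
        · subst e
          rw [one_mul] at hp ⊢
          by_cases hw1 : w' = 1
          · rw [hw1]; exact A.one_mem
          exfalso
          refine (hfr b hb x hx w' hw' ?_).elim hx1 hw1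
          rw [map_mul, hbx, show α b w' = w' from hp]
        · rw [e, mul_one]; exact hv'
      have h4 : Nat.card (fixedBy α b) = 4 := (card_fixed hcard hsq hE hinj hb).resolve_left fun h => by
        have hm : x ∈ fixedBy α b := hbx
        rw [Subgroup.eq_bot_of_card_eq _ h, Subgroup.mem_bot] at hm
        exact hx1 hm
      have := Subgroup.eq_of_le_of_card_ge hle (by rw [h4, hA])
      exact (this.symm ▸ hv : v ∈ fixedBy α b)
    have hmap : ∀ {T : Subgroup S} {g : G}, g ∈ T.map S.subtype ↔ ∃ hg : g ∈ S, (⟨g, hg⟩ : S) ∈ T := by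
      intro T g
      constructor
      · rintro ⟨⟨z, hz⟩, hzT, rfl⟩; exact ⟨hz, hzT⟩
      · rintro ⟨hg, h⟩; exact ⟨_, h, rfl⟩
    have heq : ∀ (b : E) (n : G), (∀ v : S, ((α b v : S) : G) = n * v * n⁻¹) →
        ∀ v : S, n * v = v * n ↔ α b v = v := fun b n hn v => by
      rw [Subtype.ext_iff, hn, mul_inv_eq_iff_eq_mul]
    refine ⟨hcard, hSc, fun a ha => congrArg Subtype.val (hsq ⟨a, ha⟩),
      Subgroup.map_subtype_le A, Subgroup.map_subtype_le B, ?_, ?_, ?_, ?_, ?_, ?_, ?_, ?_, ?_, ?_⟩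
    · rw [disjoint_iff, Subgroup.eq_bot_iff_forall]
      intro g hg
      obtain ⟨h1, h1'⟩ := hmap.1 hg.1
      obtain ⟨h2, h2'⟩ := hmap.1 hg.2
      have : (⟨g, h1⟩ : S) ∈ A ⊓ B := ⟨h1', h2'⟩
      rw [hAB.eq_bot, Subgroup.mem_bot] at this
      exact congrArg Subtype.val this
    · intro g hgS
      obtain ⟨v, hv, w, hw, e⟩ := hg ⟨g, hgS⟩
      exact ⟨v, ⟨v, hv, rfl⟩, w, ⟨w, hw, rfl⟩, congrArg Subtype.val e⟩
    · rw [← hA]; exact (Nat.card_congr (A.equivMapOfInjective _ S.subtype_injective).toEquiv).symm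
    · rw [← hB]; exact (Nat.card_congr (B.equivMapOfInjective _ S.subtype_injective).toEquiv).symm
    · rintro n hn _ ⟨v, hv, rfl⟩
      obtain ⟨b, hb⟩ := hdown n hn
      exact ⟨α b v, hAi b v hv, hb v⟩
    · rintro _ ⟨x, hx, rfl⟩ hx1 n hn hnx _ ⟨v, hv, rfl⟩
      obtain ⟨b, hb⟩ := hdown n hn
      exact (heq b n hb v).2 (hfixA b x hx (fun e => hx1 (by rw [e]; rfl)) ((heq b n hb x).1 hnx) v hv)
    · rintro _ ⟨x, hx, rfl⟩ hx1 _ ⟨w, hw, rfl⟩
      obtain ⟨n, hn, hnα⟩ := hlift a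
      obtain ⟨w', hw', e⟩ := hcomm w hw
      refine ⟨n, hn, (heq a n hnα x).2 (haA.symm ▸ hx : x ∈ fixedBy α a), w', ⟨w', hw', rfl⟩, ?_⟩
      rw [← e, ← hnα w']
      rfl
    · rintro _ ⟨x, hx, rfl⟩ hx1 _ ⟨w, hw, rfl⟩ hw1 _ ⟨w', hw', rfl⟩ hw1'
      obtain ⟨i, hi⟩ := htrans w hw (fun e => hw1 (by rw [e]; rfl)) w' hw' (fun e => hw1' (by rw [e]; rfl))
      obtain ⟨n, hn, hnα⟩ := hlift (a ^ i)
      exact ⟨n, hn, (heq _ n hnα x).2 (hapow i x hx), (hnα w).symm.trans (congrArg Subtype.val hi)⟩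
    · -- the nine mixed elements form one orbit
      rintro _ ⟨v, hv, rfl⟩ hv1 _ ⟨w, hw, rfl⟩ hw1 _ ⟨v', hv', rfl⟩ hv1' _ ⟨w', hw', rfl⟩ hw1'
      classical
      letI := Fintype.ofFinite A
      letI := Fintype.ofFinite B
      letI := Fintype.ofFinite E
      have hne : ∀ {T : Subgroup S} {z : S}, ((z : S) : G) ≠ 1 → z ≠ 1 := fun h e => h (by rw [e]; rfl)
      let f : E → {z : A × B // z.1 ≠ 1 ∧ z.2 ≠ 1} := fun b =>
        ⟨(⟨α b v, hAi b v hv⟩, ⟨α b w, hBi b w hw⟩),
          fun e => hne (T := A) hv1 ((α b).injective ((congrArg Subtype.val e).trans (map_one _).symm)),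
          fun e => hne (T := B) hw1 ((α b).injective ((congrArg Subtype.val e).trans (map_one _).symm))⟩
      have hf : Function.Injective f := fun b c e => by
        have e1 : α b v = α c v := congrArg (fun z => ((z.1.1 : A) : S)) e
        have e2 : α b w = α c w := congrArg (fun z => ((z.1.2 : B) : S)) e
        by_contra hbc
        have hd : c⁻¹ * b ≠ 1 := fun h => hbc (inv_mul_eq_one.1 h).symm
        refine (hfr _ hd v hv w hw ?_).elim (hne (T := A) hv1) (hne (T := B) hw1)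
        rw [map_mul (α (c⁻¹ * b)), map_mul α, MulAut.mul_apply, MulAut.mul_apply, e1, e2,
          ← MulAut.mul_apply, ← MulAut.mul_apply, ← map_mul α, inv_mul_cancel, map_one]
        rfl
      have hcardT : Fintype.card {z : A × B // z.1 ≠ 1 ∧ z.2 ≠ 1} = 9 := by
        rw [Fintype.card_subtype, show Finset.univ.filter (fun z : A × B => z.1 ≠ 1 ∧ z.2 ≠ 1) =
          (Finset.univ.erase 1) ×ˢ (Finset.univ.erase 1) by ext z; simp, Finset.card_product,
          Finset.card_erase_of_mem (Finset.mem_univ _), Finset.card_erase_of_mem (Finset.mem_univ _),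
          Finset.card_univ, Finset.card_univ, ← Nat.card_eq_fintype_card, ← Nat.card_eq_fintype_card,
          hA, hB]
      have hbij := (Fintype.bijective_iff_injective_and_card f).2
        ⟨hf, by rw [hcardT, ← Nat.card_eq_fintype_card, hE]⟩
      obtain ⟨b, hb⟩ := hbij.2 ⟨(⟨v', hv'⟩, ⟨w', hw'⟩),
        fun e => hne (T := A) hv1' (congrArg Subtype.val e),
        fun e => hne (T := B) hw1' (congrArg Subtype.val e)⟩
      obtain ⟨n, hn, hnα⟩ := hlift b
      refine isConj_iff.2 ⟨n, ?_⟩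
      have e1 : α b v = v' := congrArg (fun z => ((z.1.1 : A) : S)) hb
      have e2 : α b w = w' := congrArg (fun z => ((z.1.2 : B) : S)) hb
      simp only [Subgroup.coe_subtype, ← Subgroup.coe_mul]
      rw [← e1, ← e2, ← map_mul (α b), hnα]
    · rintro _ ⟨v, hv, rfl⟩ hv1 _ ⟨w, hw, rfl⟩ hw1 n hn hnvw
      obtain ⟨b, hb⟩ := hdown n hn
      have hb1 : b = 1 := by
        by_contra h
        refine (hfr b h v hv w hw ?_).elim (fun e => hv1 (by rw [e]; rfl)) (fun e => hw1 (by rw [e]; rfl))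
        exact (heq b n hb (v * w)).1 hnvw
      refine Subgroup.mem_centralizer_iff.2 fun z hz => ?_
      exact ((heq b n hb ⟨z, hz⟩).2 (by rw [hb1, map_one]; rfl)).symm
  refine ⟨_, _, key V W hV hW hVW hgen hVi hWi hVa hfree,
    key W V hW hV hVW.symm (fun p => ?_) hWi hVi hWa (fun a ha w hw v hv e => ?_)⟩
  · obtain ⟨v, hv, w, hw, e⟩ := hgen p
    exact ⟨w, hw, v, hv, by rw [comm_P hcard hsq hE hinj w v, e]⟩
  · exact (hfree a ha v hv w hw (by rw [comm_P hcard hsq hE hinj v w]; exact e)).symm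

end Cfsg.Agent.Blocks.NineInertial
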